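import Groth.Agent.AR46.Step

/-!
Adapted systems and graded submodules of their strict graded object.
-/

universe w v u

open CategoryTheory CategoryTheory.Limits Opposite ARSys

namespace Groth.Agent.AR46

variable {C : Type u} [Category.{v} C] [Abelian C] {A : Type w} [CommRing A] [Linear A C]
  {J : Ideal A} {X : PS C}

lemma fsub_factors_iff {q n : ℕ} {T : C} (x : T ⟶ X.obj (op n)) :
    (Fsub X q n).Factors x ↔ ∀ k, k + 1 = q → (∀ h : k ≤ n, x ≫ tr X h = 0) ∧ (n < k → x = 0) := by
  cases q with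
  | zero => exact ⟨fun _ k hk => absurd hk (Nat.succ_ne_zero k), fun _ => Subobject.top_factors x⟩
  | succ j =>
    by_cases hj : j ≤ n
    · rw [show Fsub X (j + 1) n = kernelSubobject (tr X hj) from dif_pos hj,
        kernelSubobject_factors_iff]
      refine ⟨fun h k hk => ?_, fun h => (h j rfl).1 hj⟩
      obtain rfl : k = j := by omega
      exact ⟨fun _ => h, fun hn => absurd hn (by omega)⟩
    · rw [show Fsub X (j + 1) n = ⊥ from dif_neg hj, bot_factors]
      refine ⟨fun h k hk => ⟨fun _ => by rw [h, zero_comp], fun _ => h⟩,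
        fun h => (h j rfl).2 (by omega)⟩

lemma fsub_tr {q n m : ℕ} (hq : q ≤ n + 1) (hnm : n ≤ m) {T : C} {x : T ⟶ X.obj (op m)}
    (hx : (Fsub X q m).Factors x) : (Fsub X q n).Factors (x ≫ tr X hnm) := by
  rw [fsub_factors_iff] at hx ⊢
  intro k hk
  refine ⟨fun h => ?_, fun h => absurd h (by omega)⟩
  rw [Category.assoc, tr_tr]
  exact (hx k hk).1 _

lemma fsub_of_tr {q n m : ℕ} (hq : q ≤ n + 1) (hnm : n ≤ m) {T : C} {x : T ⟶ X.obj (op m)}
    (hx : (Fsub X q n).Factors (x ≫ tr X hnm)) : (Fsub X q m).Factors x := by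
  rw [fsub_factors_iff] at hx ⊢
  intro k hk
  refine ⟨fun h => ?_, fun h => absurd h (by omega)⟩
  have := (hx k hk).1 (by omega)
  rwa [Category.assoc, tr_tr] at this

lemma smul_eq_comp (a : A) {T Y : C} (x : T ⟶ Y) : x ≫ (a • 𝟙 Y) = a • x := by
  rw [Linear.comp_smul, Category.comp_id]

lemma smul_eq_zero_of_adapted (hA : IsAdapted J X) {n p q : ℕ} (hq : n + 1 ≤ p + q) {a : A}
    (ha : a ∈ J ^ p) {T : C} {x : T ⟶ X.obj (op n)} (hx : (Fsub X q n).Factors x) : a • x = 0 := by
  by_cases hp : q ≤ n + 1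
  · have h := hA n (n + 1 - q) (by omega) a (Ideal.pow_le_pow_right (by omega) ha)
    rw [show n + 1 - (n + 1 - q) = q by omega] at h
    rw [← Subobject.factorThru_arrow _ x hx, ← smul_eq_comp, Category.assoc, h, comp_zero]
  · obtain ⟨k, hk⟩ : ∃ k, k + 1 = q := ⟨q - 1, by omega⟩
    rw [((fsub_factors_iff x).1 hx k hk).2 (by omega), smul_zero]

lemma smul_mem_fsub (hA : IsAdapted J X) {n p q : ℕ} {a : A} (ha : a ∈ J ^ p) {T : C}
    {x : T ⟶ X.obj (op n)} (hx : (Fsub X q n).Factors x) : (Fsub X (p + q) n).Factors (a • x) := by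
  rw [fsub_factors_iff]
  intro k hk
  refine ⟨fun h => ?_, fun h => smul_eq_zero_of_adapted hA (by omega) ha hx⟩
  rw [Linear.smul_comp]
  exact smul_eq_zero_of_adapted hA (by omega) ha (fsub_tr (by omega) h hx)

lemma isGrSub_iff {M : (q : ℕ) → Subobject (X.obj (op q))} :
    IsGrSub J X M ↔ (∀ q, M q ≤ Fsub X q q) ∧ ∀ (p q : ℕ), ∀ a ∈ J ^ p, ∀ ⦃T : C⦄
      (x : T ⟶ X.obj (op (p + q))), (M q).Factors (x ≫ tr X (Nat.le_add_left q p)) →
        (M (p + q)).Factors (a • x) := by
  refine and_congr_right fun _ => forall_congr' fun p => forall_congr' fun q =>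
    forall_congr' fun a => forall_congr' fun _ => ?_
  rw [image_le_iff, smul_eq_comp]
  refine ⟨fun h T x hx => ?_, fun h => h _ ((pullback_factors_iff _).1 (Subobject.factors_self _))⟩
  have hx' := (pullback_factors_iff x).2 hx
  rw [← Subobject.factorThru_arrow _ x hx', ← Linear.comp_smul]
  exact Subobject.factors_of_factors_right _ h

lemma fker_eq_fsub (q : ℕ) : Fker X q = Fsub X q q := by
  cases q with
  | zero => rfl
  | succ k =>
    exact (show Fsub X (k + 1) (k + 1) = kernelSubobject (tr X (Nat.le_succ k)) from dif_pos _).symm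

lemma termKilled_of_adapted (hA : IsAdapted J X) : TermKilled J X := fun n a ha => by
  refine smul_eq_zero_of_adapted hA (q := 0) (by omega) ha ?_
  exact Subobject.top_factors _

lemma kerLEI_of_grsFiniteType (hJ : HasQuots C J) (hX : IsStrict X) (hA : IsAdapted J X)
    (hft : GrsFiniteType J X) : ∃ r, KerLEI J X r := by
  choose Q π hπ using fun (i q : ℕ) => hJ (q - i) (X.obj (op q))
  let K : ∀ i q, Subobject (X.obj (op q)) := fun i q => kernelSubobject (π i q)
  have hK : ∀ {i q : ℕ} {T : C} {x : T ⟶ X.obj (op q)},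
      (K i q).Factors x ↔ LEI (J ^ (q - i)) x := fun {i q} {T} {x} =>
    (kernelSubobject_factors_iff _ _).trans (lei_iff_comp_eq_zero (hπ i q) x).symm
  let M : ℕ → ∀ q, Subobject (X.obj (op q)) := fun i q => Fsub X q q ⊓ K i q
  have hM : ∀ i, IsGrSub J X (M i) := fun i => isGrSub_iff.2
    ⟨fun q => inf_le_left, fun p q a ha T x hx => by
      rw [Subobject.inf_factors] at hx ⊢
      have hxF := fsub_of_tr (by omega) _ hx.1
      refine ⟨smul_mem_fsub hA ha hxF, hK.2 ?_⟩
      have := hX q (p + q) (Nat.le_add_left q p)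
      obtain ⟨T', e, he, x', hx', hx''⟩ :=
        exists_lei_lift (hJ _ _) (tr X (Nat.le_add_left q p)) (hK.1 hx.2)
      have h0 : a • (e ≫ x - x') = 0 := by
        refine smul_eq_zero_of_adapted hA (q := q + 1) (by omega) ha ?_
        rw [fsub_factors_iff]
        intro k hk
        obtain rfl : k = q := by omega
        refine ⟨fun h => ?_, fun h => absurd h (by omega)⟩
        rw [Preadditive.sub_comp, Category.assoc, hx'', sub_self]
      refine lei_of_epi_comp e ?_
      rw [Linear.comp_smul, show e ≫ x = (e ≫ x - x') + x' by abel, smul_add, h0, zero_add]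
      exact lei_mono_ideal ((pow_add J p (q - i)).symm.trans_le
        (Ideal.pow_le_pow_right (by omega))) (lei_smul_mul ha hx')⟩
  have hmono : Monotone M := fun i j hij q => inf_le_inf_left _ (le_iff_factors.2 fun T x hx =>
    hK.2 (lei_mono_ideal (Ideal.pow_le_pow_right (by omega)) (hK.1 hx)))
  obtain ⟨i, hi⟩ := hft M hM hmono fun q => ⟨by rintro _ ⟨i, rfl⟩; exact inf_le_left,
    fun U hU => le_trans (le_iff_factors.2 fun T x hx => (Subobject.inf_factors _).2
      ⟨hx, hK.2 (by rw [Nat.sub_self]; exact lei_pow_zero _ _)⟩) (hU ⟨q, rfl⟩)⟩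
  refine ⟨i, kerLEI_of_subLEIdeal_fker hJ hX fun q => ?_⟩
  refine hK.1 (?_ : (K i q).Factors (Fker X q).arrow)
  have : (M i q).Factors (Fker X q).arrow := by
    rw [hi q, ← fker_eq_fsub]
    exact Subobject.factors_self _
  exact ((Subobject.inf_factors _).1 this).2

end Groth.Agent.AR46
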