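import Groth.Agent.AR46.Shift
import Mathlib.CategoryTheory.Limits.Shapes.Products
import Mathlib.RingTheory.Finiteness.Ideal
import Mathlib.CategoryTheory.Preadditive.Biproducts

/-!
Objects, morphisms and generalised elements killed by or contained in multiples of an ideal.
-/

universe w v u

open CategoryTheory CategoryTheory.Limits Opposite ARSys

namespace Groth.Agent.AR46

variable {C : Type u} [Category.{v} C] [Abelian C] {A : Type w} [CommRing A] [Linear A C]
  {I K : Ideal A} {X Y Z T : C}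

/-- The generalised element `x` lies in `I X`. -/
def LEI (I : Ideal A) (x : T ⟶ X) : Prop := ∀ ⦃Y : C⦄ (φ : X ⟶ Y), HomKilledBy I φ → x ≫ φ = 0

lemma homKilledBy_of_source (h : KilledBy I X) (φ : X ⟶ Y) : HomKilledBy I φ := fun a ha => by
  rw [← Category.id_comp φ, ← Linear.smul_comp, h a ha, zero_comp]

lemma homKilledBy_of_target (h : KilledBy I Y) (φ : X ⟶ Y) : HomKilledBy I φ := fun a ha => by
  rw [← Category.comp_id φ, ← Linear.comp_smul, h a ha, comp_zero]

lemma killedBy_of_mono (i : X ⟶ Y) [Mono i] (h : KilledBy I Y) : KilledBy I X := fun a ha => by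
  rw [← cancel_mono i, zero_comp, Linear.smul_comp, Category.id_comp]
  exact homKilledBy_of_target h i a ha

lemma killedBy_of_epi (p : X ⟶ Y) [Epi p] (h : KilledBy I X) : KilledBy I Y := fun a ha => by
  rw [← cancel_epi p, comp_zero, Linear.comp_smul, Category.comp_id]
  exact homKilledBy_of_source h p a ha

lemma killedBy_mono_ideal (hIK : I ≤ K) (h : KilledBy K X) : KilledBy I X :=
  fun a ha => h a (hIK ha)

lemma killedBy_of_jointly_mono {i : X ⟶ Y} {j : X ⟶ Z}
    (hij : ∀ (f : X ⟶ X), f ≫ i = 0 → f ≫ j = 0 → f = 0) (hY : KilledBy I Y) (hZ : KilledBy I Z) :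
    KilledBy I X := fun a ha => by
  refine hij _ ?_ ?_
  · rw [Linear.smul_comp, Category.id_comp]; exact homKilledBy_of_target hY i a ha
  · rw [Linear.smul_comp, Category.id_comp]; exact homKilledBy_of_target hZ j a ha

lemma lei_comp_left {x : T ⟶ X} (h : LEI I x) {T' : C} (t : T' ⟶ T) : LEI I (t ≫ x) :=
  fun Y φ hφ => by rw [Category.assoc, h φ hφ, comp_zero]

lemma lei_comp_right {x : T ⟶ X} (h : LEI I x) (g : X ⟶ Y) : LEI I (x ≫ g) := fun Z φ hφ => by
  rw [Category.assoc]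
  exact h _ fun a ha => by rw [← Linear.comp_smul, hφ a ha, comp_zero]

lemma lei_add {x y : T ⟶ X} (hx : LEI I x) (hy : LEI I y) : LEI I (x + y) := fun Y φ hφ => by
  rw [Preadditive.add_comp, hx φ hφ, hy φ hφ, add_zero]

lemma lei_sub {x y : T ⟶ X} (hx : LEI I x) (hy : LEI I y) : LEI I (x - y) := fun Y φ hφ => by
  rw [Preadditive.sub_comp, hx φ hφ, hy φ hφ, sub_zero]

lemma lei_zero : LEI I (0 : T ⟶ X) := fun _ _ _ => zero_comp

lemma lei_mono_ideal (hIK : I ≤ K) {x : T ⟶ X} (hx : LEI I x) : LEI K x :=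
  fun _ φ hφ => hx φ fun a ha => hφ a (hIK ha)

lemma lei_top (x : T ⟶ X) : LEI (⊤ : Ideal A) x := fun Y φ hφ => by
  have := hφ 1 (Submodule.mem_top)
  rw [one_smul] at this
  rw [this, comp_zero]

lemma lei_pow_zero (J : Ideal A) (x : T ⟶ X) : LEI (J ^ 0) x := by
  rw [pow_zero, Ideal.one_eq_top]; exact lei_top x

lemma lei_smul {a : A} (ha : a ∈ I) (x : T ⟶ X) : LEI I (a • x) := fun Y φ hφ => by
  rw [Linear.smul_comp, ← Linear.comp_smul, hφ a ha, comp_zero]

lemma lei_of_epi_comp {x : T ⟶ X} {T' : C} (e : T' ⟶ T) [Epi e] (h : LEI I (e ≫ x)) : LEI I x :=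
  fun Y φ hφ => by rw [← cancel_epi e, ← Category.assoc, h φ hφ, comp_zero]

lemma eq_zero_of_lei {x : T ⟶ X} (h : LEI I x) (hX : KilledBy I X) : x = 0 := by
  simpa using h (𝟙 X) hX

lemma lei_smul_mul {a : A} (ha : a ∈ K) {x : T ⟶ X} (hx : LEI I x) : LEI (K * I) (a • x) :=
  fun Y φ hφ => by
    rw [Linear.smul_comp, ← Linear.comp_smul]
    exact hx _ fun b hb => by rw [smul_smul]; exact hφ _ (by rw [mul_comm b]; exact Ideal.mul_mem_mul ha hb)

lemma subLEIdeal_iff {S : Subobject X} : SubLEIdeal I S ↔ LEI I S.arrow := Iff.rfl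

lemma isQuot_epi {p : X ⟶ Y} (hp : IsQuot I p) : Epi p :=
  ⟨fun a b hab => (hp.2 _ (p ≫ a) fun r hr => by
    rw [← Linear.smul_comp, homKilledBy_of_target hp.1 p r hr, zero_comp]).unique rfl hab.symm⟩

lemma lei_iff_comp_eq_zero {p : X ⟶ Y} (hp : IsQuot I p) (x : T ⟶ X) : LEI I x ↔ x ≫ p = 0 := by
  refine ⟨fun h => h p (homKilledBy_of_target hp.1 p), fun h Z φ hφ => ?_⟩
  obtain ⟨ψ, hψ, -⟩ := hp.2 Z φ hφ
  rw [← hψ, reassoc_of% h, zero_comp]

lemma isQuot_of {p : X ⟶ Y} [Epi p] (hY : KilledBy I Y) (h : LEI I (kernel.ι p)) :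
    IsQuot I p :=
  ⟨hY, fun Z φ hφ => ⟨Abelian.epiDesc p φ (h φ hφ), Abelian.comp_epiDesc _ _ _,
    fun ψ hψ => by rw [← cancel_epi p, hψ, Abelian.comp_epiDesc]⟩⟩

lemma killedBy_span {s : Set A} (h : ∀ a ∈ s, (a • 𝟙 X : X ⟶ X) = 0) :
    KilledBy (Ideal.span s) X := by
  intro a ha
  induction ha using Submodule.span_induction with
  | mem b hb => exact h b hb
  | zero => exact zero_smul A _
  | add b c _ _ hb hc => rw [add_smul, hb, hc, add_zero]
  | smul r b _ hb => rw [smul_eq_mul, mul_smul, hb, smul_zero]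

lemma exists_isQuot_of_family (X : C) {ι : Type*} (g : ι → A) (hg : Ideal.span (Set.range g) = I)
    [HasCoproduct fun _ : ι => X] : ∃ (Q : C) (p : X ⟶ Q), IsQuot I p := by
  let d : (∐ fun _ : ι => X) ⟶ X := Sigma.desc fun i => g i • 𝟙 X
  refine ⟨cokernel d, cokernel.π d, ?_, fun Z φ hφ => ?_⟩
  · rw [← hg]
    refine killedBy_span ?_
    rintro _ ⟨i, rfl⟩
    have := Sigma.ι (fun _ : ι => X) i ≫= cokernel.condition d
    simp only [d, Sigma.ι_desc_assoc, comp_zero, Linear.smul_comp, Category.id_comp] at this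
    rw [← cancel_epi (cokernel.π d), comp_zero, Linear.comp_smul, Category.comp_id, this]
  · refine ⟨cokernel.desc d φ ?_, cokernel.π_desc _ _ _, fun ψ hψ => ?_⟩
    · refine Sigma.hom_ext _ _ fun i => ?_
      simp only [d, Sigma.ι_desc_assoc, Linear.smul_comp, Category.id_comp, comp_zero]
      exact hφ _ (hg ▸ Ideal.subset_span ⟨i, rfl⟩)
    · rw [← cancel_epi (cokernel.π d), hψ, cokernel.π_desc]

/-- Quotients modulo every power of `J` exist. -/
def HasQuots (C : Type u) [Category.{v} C] [Abelian C] [Linear A C] (J : Ideal A) : Prop :=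
  ∀ (n : ℕ) (X : C), ∃ (Q : C) (p : X ⟶ Q), IsQuot (J ^ n) p

lemma hasQuots {J : Ideal A} (hJ : J.FG ∨ HasCoproducts.{w} C) : HasQuots C J := by
  intro n X
  rcases hJ with hJ | hJ
  · obtain ⟨k, g, hg⟩ := Submodule.fg_iff_exists_fin_generating_family.1 (Ideal.FG.pow (n := n) hJ)
    exact exists_isQuot_of_family X g hg
  · exact exists_isQuot_of_family X (fun a : (J ^ n : Ideal A) => (a : A))
      (by rw [Subtype.range_coe_subtype]; exact Submodule.span_eq _)

lemma hasQuots_of_noetherian [IsNoetherianRing A] (J : Ideal A) : HasQuots C J :=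
  hasQuots (Or.inl (IsNoetherian.noetherian J))

lemma exists_lei_lift (hX : ∃ (Q : C) (p : X ⟶ Q), IsQuot I p) (g : X ⟶ Y) [Epi g] {y : T ⟶ Y}
    (hy : LEI I y) : ∃ (T' : C) (e : T' ⟶ T) (_ : Epi e) (x : T' ⟶ X), LEI I x ∧ e ≫ y = x ≫ g := by
  obtain ⟨Q, p, hp⟩ := hX
  have h : y ≫ cokernel.π (kernel.ι p ≫ g) = 0 := hy _ fun a ha => by
    have hk : (a • 𝟙 X) ≫ p = 0 := by
      rw [Linear.smul_comp, Category.id_comp]; exact homKilledBy_of_target hp.1 p a ha
    have e : g ≫ (a • cokernel.π (kernel.ι p ≫ g)) =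
        kernel.lift p (a • 𝟙 X) hk ≫ (kernel.ι p ≫ g) ≫ cokernel.π (kernel.ι p ≫ g) := by
      simp only [Category.assoc, kernel.lift_ι_assoc]
      rw [Linear.smul_comp, Category.id_comp, Linear.comp_smul]
    rw [← cancel_epi g, comp_zero, e, cokernel.condition, comp_zero]
  obtain ⟨T', e, he, k, hk⟩ := (ShortComplex.exact_cokernel (kernel.ι p ≫ g)).exact_up_to_refinements y h
  refine ⟨T', e, he, k ≫ kernel.ι p, (lei_iff_comp_eq_zero hp _).2 (by simp), ?_⟩
  simpa using hk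

end Groth.Agent.AR46
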