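import Groth.Agent.AR46.Systems
import Groth.Agent.AR46.Ideal

/-!
Adic systems and systems adic up to translation.
-/

universe w v u

open CategoryTheory CategoryTheory.Limits Opposite ARSys

namespace Groth.Agent.AR46

variable {C : Type u} [Category.{v} C] [Abelian C] {A : Type w} [CommRing A] [Linear A C]
  {J : Ideal A} {X Y Z : PS C}

lemma pow_succ_le_of_le (J : Ideal A) {n m : ℕ} (h : n ≤ m) : J ^ (m + 1) ≤ J ^ (n + 1) :=
  Ideal.pow_le_pow_right (by omega)

lemma isStrict_of_isAdic (h : IsAdic J X) : IsStrict X := fun n m hnm => isQuot_epi (h.2 n m hnm)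

lemma IsAdicKer.lei (h : IsAdic J X) {n m : ℕ} (hnm : n ≤ m) {T : C} {x : T ⟶ X.obj (op m)}
    (hx : x ≫ tr X hnm = 0) : LEI (J ^ (n + 1)) x :=
  (lei_iff_comp_eq_zero (h.2 n m hnm) x).2 hx

lemma isAdic_of (hk : TermKilled J X) (hs : IsStrict X)
    (h : ∀ {n m : ℕ} (hnm : n ≤ m) ⦃T : C⦄ (x : T ⟶ X.obj (op m)), x ≫ tr X hnm = 0 →
      LEI (J ^ (n + 1)) x) : IsAdic J X :=
  ⟨hk, fun n m hnm => haveI := hs n m hnm; isQuot_of (hk n) (h hnm _ (kernel.condition _))⟩

lemma tr_eq_zero_of_lei (hk : TermKilled J X) {n m : ℕ} (hnm : n ≤ m) {T : C}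
    {x : T ⟶ X.obj (op m)} (hx : LEI (J ^ (n + 1)) x) : x ≫ tr X hnm = 0 :=
  eq_zero_of_lei (lei_comp_right hx _) (hk n)

/-- A map out of a translate of an adic system into a killed system descends uniquely. -/
lemma existsUnique_desc_shift (hX : IsAdic J X) (hY : TermKilled J Y) (r : ℕ)
    (f : ∀ n, X.obj (op (n + r)) ⟶ Y.obj (op n))
    (hf : ∀ {a b : ℕ} (h : a ≤ b), tr X (Nat.add_le_add_right h r) ≫ f a = f b ≫ tr Y h) :
    ∃! g : X ⟶ Y, ∀ n, f n = sm X r n ≫ g.app (op n) := by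
  choose g hg _ using fun n => (hX.2 n (n + r) (Nat.le_add_right n r)).2 _ (f n)
    (homKilledBy_of_target (hY n) _)
  have := fun n => isStrict_of_isAdic hX n (n + r) (Nat.le_add_right n r)
  refine ⟨{ app := fun n => g n.unop, naturality := fun n m k => ?_ }, fun n => (hg n).symm,
    fun g' hg' => ?_⟩
  · refine (?_ : tr X k.unop.le ≫ g m.unop = g n.unop ≫ tr Y k.unop.le)
    rw [← cancel_epi (sm X r n.unop), reassoc_of% hg n.unop, sm, tr_tr_assoc,
      ← tr_tr_assoc X (Nat.le_add_right m.unop r) (Nat.add_le_add_right k.unop.le r), hg m.unop]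
    exact hf k.unop.le
  · ext ⟨n⟩
    rw [← cancel_epi (sm X r n)]
    exact (hg' n).symm.trans (hg n).symm

lemma hom_ext_of_sm (hX : IsAdic J X) {g g' : X ⟶ Y} {r : ℕ}
    (h : ∀ n, sm X r n ≫ g.app (op n) = sm X r n ≫ g'.app (op n)) : g = g' := by
  ext ⟨n⟩
  have := isStrict_of_isAdic hX n (n + r) (Nat.le_add_right n r)
  exact (cancel_epi (sm X r n)).1 (h n)

section Seq

variable {S : ShortComplex (PS C)} (hS : S.ShortExact)

include hS

lemma isAdic_quotient (h₁ : IsStrict S.X₁) (h₂ : IsAdic J S.X₂) : IsAdic J S.X₃ := by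
  have hepi : ∀ n : ℕᵒᵖ, Epi (S.g.app n) := fun n => app_epi hS n.unop
  refine isAdic_of (fun n => killedBy_of_epi (S.g.app (op n)) (h₂.1 n))
    (isStrict_of_epi S.g (isStrict_of_isAdic h₂)) fun {n m} hnm T z hz => ?_
  obtain ⟨T₁, e₁, he₁, y, hy⟩ := surjective_up_to_refinements_of_epi (S.g.app (op m)) z
  obtain ⟨x, hx⟩ := app_exists_lift hS n (y ≫ tr S.X₂ hnm) (by
    rw [Category.assoc, tr_naturality, ← reassoc_of% hy, hz, comp_zero])
  have := h₁ n m hnm
  obtain ⟨T₂, e₂, he₂, x', hx'⟩ := surjective_up_to_refinements_of_epi (tr S.X₁ hnm) x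
  have h0 : LEI (J ^ (n + 1)) (e₂ ≫ y - x' ≫ S.f.app (op m)) := IsAdicKer.lei h₂ hnm (by
    rw [Preadditive.sub_comp, Category.assoc, Category.assoc, ← tr_naturality, ← hx,
      reassoc_of% hx', sub_self])
  refine lei_of_epi_comp e₁ (lei_of_epi_comp e₂ ?_)
  rw [hy]
  simpa [app_zero] using lei_comp_right h0 (S.g.app (op m))

variable (hJ : HasQuots C J) (k₂ : TermKilled J S.X₂)

include hJ k₂

lemma isStrict_sub (h₂ : IsStrict S.X₂) (h₃ : IsAdic J S.X₃) : IsStrict S.X₁ := by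
  intro n m hnm
  rw [epi_iff_surjective_up_to_refinements]
  intro T x
  have := h₂ n m hnm
  obtain ⟨T₁, e₁, he₁, y, hy⟩ :=
    surjective_up_to_refinements_of_epi (tr S.X₂ hnm) (x ≫ S.f.app (op n))
  have hz : (y ≫ S.g.app (op m)) ≫ tr S.X₃ hnm = 0 := by
    rw [Category.assoc, ← tr_naturality, ← reassoc_of% hy, app_zero, comp_zero, comp_zero]
  have := app_epi hS m
  obtain ⟨T₂, e₂, he₂, y', hy', hy''⟩ :=
    exists_lei_lift (hJ _ _) (S.g.app (op m)) (IsAdicKer.lei h₃ hnm hz)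
  obtain ⟨x', hx'⟩ := app_exists_lift hS m (e₂ ≫ y - y') (by
    rw [Preadditive.sub_comp, Category.assoc, hy'', sub_self])
  refine ⟨T₂, e₂ ≫ e₁, inferInstance, x', ?_⟩
  have := app_mono hS n
  rw [← cancel_mono (S.f.app (op n)), Category.assoc, Category.assoc, Category.assoc,
    tr_naturality, reassoc_of% hx', Preadditive.sub_comp, tr_eq_zero_of_lei k₂ hnm hy',
    sub_zero, hy, Category.assoc]

lemma isAdic_middle (h₁ : IsAdic J S.X₁) (h₃ : IsAdic J S.X₃) : IsAdic J S.X₂ := by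
  refine isAdic_of k₂ (fun n m hnm => ?_) fun {n m} hnm T y hy => ?_
  · rw [epi_iff_surjective_up_to_refinements]
    intro T y
    have := isStrict_of_isAdic h₃ n m hnm
    obtain ⟨T₁, e₁, he₁, z, hz⟩ :=
      surjective_up_to_refinements_of_epi (tr S.X₃ hnm) (y ≫ S.g.app (op n))
    have := app_epi hS m
    obtain ⟨T₂, e₂, he₂, y', hy'⟩ := surjective_up_to_refinements_of_epi (S.g.app (op m)) z
    obtain ⟨x, hx⟩ := app_exists_lift hS n (e₂ ≫ e₁ ≫ y - y' ≫ tr S.X₂ hnm) (by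
      rw [Preadditive.sub_comp, Category.assoc, Category.assoc, Category.assoc, tr_naturality, hz,
        reassoc_of% hy', sub_self])
    have := isStrict_of_isAdic h₁ n m hnm
    obtain ⟨T₃, e₃, he₃, x', hx'⟩ := surjective_up_to_refinements_of_epi (tr S.X₁ hnm) x
    refine ⟨T₃, e₃ ≫ e₂ ≫ e₁, inferInstance, x' ≫ S.f.app (op m) + e₃ ≫ y', ?_⟩
    rw [Preadditive.add_comp, Category.assoc, Category.assoc, Category.assoc, Category.assoc,
      ← tr_naturality, ← reassoc_of% hx', hx, Preadditive.comp_sub]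
    abel
  · have hz : (y ≫ S.g.app (op m)) ≫ tr S.X₃ hnm = 0 := by
      rw [Category.assoc, ← tr_naturality, reassoc_of% hy, zero_comp]
    have := app_epi hS m
    obtain ⟨T₁, e₁, he₁, y', hy', hy''⟩ :=
      exists_lei_lift (hJ _ _) (S.g.app (op m)) (IsAdicKer.lei h₃ hnm hz)
    obtain ⟨x, hx⟩ := app_exists_lift hS m (e₁ ≫ y - y') (by
      rw [Preadditive.sub_comp, Category.assoc, hy'', sub_self])
    have hx0 : x ≫ tr S.X₁ hnm = 0 := by
      have := app_mono hS n
      rw [← cancel_mono (S.f.app (op n)), Category.assoc, tr_naturality, reassoc_of% hx,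
        Preadditive.sub_comp, tr_eq_zero_of_lei k₂ hnm hy', Category.assoc, hy, comp_zero,
        sub_zero, zero_comp]
    refine lei_of_epi_comp e₁ ?_
    have := lei_add (hx ▸ lei_comp_right (IsAdicKer.lei h₁ hnm hx0) (S.f.app (op m))) hy'
    simpa using this

end Seq

/-- The kernels of transition maps of `X[r]` lie in the powers of `J`. -/
def KerLEI (J : Ideal A) (X : PS C) (r : ℕ) : Prop :=
  ∀ {n m : ℕ} (h : n ≤ m) ⦃T : C⦄ (x : T ⟶ X.obj (op (m + r))),
    x ≫ tr X (Nat.add_le_add_right h r) = 0 → LEI (J ^ (n + 1)) x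

lemma exists_adic_of_kerLEI (hJ : HasQuots C J) (hX : IsStrict X) (kX : TermKilled J X) {r : ℕ}
    (hr : KerLEI J X r) :
    ∃ (Q : PS C) (q : ∀ n, X.obj (op (n + r)) ⟶ Q.obj (op n)) (ψ : Q ⟶ X),
      (∀ n, IsQuot (J ^ (n + 1)) (q n)) ∧
      (∀ {a b : ℕ} (h : a ≤ b), tr X (Nat.add_le_add_right h r) ≫ q a = q b ≫ tr Q h) ∧
      IsAdic J Q ∧ IsARIso ψ := by
  choose Qo q hq using fun n => hJ (n + 1) (X.obj (op (n + r)))
  choose t ht _ using fun (n m : ℕ) (h : n ≤ m) =>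
    (hq m).2 _ (tr X (Nat.add_le_add_right h r) ≫ q n)
      (homKilledBy_of_target (killedBy_mono_ideal (pow_succ_le_of_le J h) (hq n).1) _)
  have hqe := fun n => isQuot_epi (hq n)
  let Q : PS C :=
    { obj := fun n => Qo n.unop
      map := fun {n m} f => t m.unop n.unop f.unop.le
      map_id := fun n => by
        rw [← cancel_epi (q n.unop), ht, tr_self]
        exact (Category.id_comp _).trans (Category.comp_id _).symm
      map_comp := fun {n m k} f g => by
        rw [← cancel_epi (q n.unop), ht, ← Category.assoc, ht, Category.assoc, ht, tr_tr_assoc] }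
  have hnat : ∀ {a b : ℕ} (h : a ≤ b),
      tr X (Nat.add_le_add_right h r) ≫ q a = q b ≫ tr Q h := fun h => (ht _ _ h).symm
  choose ψ hψ _ using fun n => (hq n).2 _ (sm X r n) (homKilledBy_of_target (kX n) _)
  let Ψ : Q ⟶ X :=
    { app := fun n => ψ n.unop
      naturality := fun n m f => by
        refine (?_ : t m.unop n.unop f.unop.le ≫ ψ m.unop = ψ n.unop ≫ tr X f.unop.le)
        rw [← cancel_epi (q n.unop), reassoc_of% ht m.unop n.unop f.unop.le, hψ,
          reassoc_of% hψ n.unop, tr_tr, tr_tr] }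
  refine ⟨Q, q, Ψ, hq, hnat, isAdic_of (fun n => (hq n).1) (fun a b h => ?_) ?_,
    isARIso_of_isShiftInverse (s := r) (w := q) ⟨hnat, hψ, fun n => ?_⟩⟩
  · have := hX (a + r) (b + r) (Nat.add_le_add_right h r)
    exact epi_of_epi_fac (hnat h).symm
  · intro n m hnm T y hy
    obtain ⟨T₁, e₁, he₁, x, hx⟩ := surjective_up_to_refinements_of_epi (q m) y
    have hx0 : LEI (J ^ (n + 1)) (x ≫ tr X (Nat.add_le_add_right hnm r)) := by
      rw [lei_iff_comp_eq_zero (hq n), Category.assoc, hnat hnm, ← reassoc_of% hx, hy, comp_zero]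
    have := hX (n + r) (m + r) (Nat.add_le_add_right hnm r)
    obtain ⟨T₂, e₂, he₂, x', hx', hx''⟩ :=
      exists_lei_lift (hJ _ _) (tr X (Nat.add_le_add_right hnm r)) hx0
    have h2 := hr hnm (e₂ ≫ x - x') (by rw [Preadditive.sub_comp, Category.assoc, hx'', sub_self])
    have h3 : LEI (J ^ (n + 1)) (e₂ ≫ x) := by simpa using lei_add h2 hx'
    refine lei_of_epi_comp e₁ (lei_of_epi_comp e₂ ?_)
    rw [hx, ← Category.assoc]
    exact lei_comp_right h3 _
  · rw [← cancel_epi (q (n + r))]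
    refine (?_ : q (n + r) ≫ ψ (n + r) ≫ q n = q (n + r) ≫ sm Q r n)
    rw [reassoc_of% hψ (n + r)]
    exact hnat (Nat.le_add_right n r)

lemma exists_kerLEI_of_isARAdic (hX : IsStrict X) (h : IsARAdic J X) : ∃ r, KerLEI J X r := by
  obtain ⟨-, B, u, hB, hu⟩ := h
  obtain ⟨s, w, hw⟩ := (isARIso_iff_exists_shiftInverse u).1 hu
  refine ⟨s, fun {n m} hnm T x hx => ?_⟩
  have : Epi (u.app (op (m + s))) := by
    have := hX (m + s) (m + s + s) (Nat.le_add_right _ _)
    exact epi_of_epi_fac (hw.inv_comp (m + s))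
  obtain ⟨T₁, e₁, he₁, b, hb⟩ := surjective_up_to_refinements_of_epi (u.app (op (m + s))) x
  have h0 : b ≫ tr B (show n ≤ m + s by omega) = 0 := by
    have h1 : (b ≫ tr B (Nat.add_le_add_right hnm s)) ≫ u.app (op (n + s)) = 0 := by
      rw [Category.assoc, tr_naturality, ← reassoc_of% hb, hx, comp_zero]
    have h2 := congrArg (· ≫ w n) h1
    simp only [Category.assoc, hw.comp_inv, sm, tr_tr, zero_comp] at h2
    exact h2
  refine lei_of_epi_comp e₁ ?_
  rw [hb]
  exact lei_comp_right (IsAdicKer.lei hB _ h0) _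

lemma isARAdic_iff_kerLEI (hJ : HasQuots C J) (hX : IsStrict X) (kX : TermKilled J X) :
    IsARAdic J X ↔ ∃ r, KerLEI J X r := by
  refine ⟨exists_kerLEI_of_isARAdic hX, fun ⟨r, hr⟩ => ?_⟩
  obtain ⟨Q, q, ψ, -, -, hQ, hψ⟩ := exists_adic_of_kerLEI hJ hX kX hr
  exact ⟨kX, Q, ψ, hQ, hψ⟩

end Groth.Agent.AR46
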