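import Mathlib.CategoryTheory.Abelian.Refinements
import Mathlib.CategoryTheory.Subobject.Limits
import Mathlib.CategoryTheory.Subobject.NoetherianObject
import Mathlib.CategoryTheory.Subobject.ArtinianObject

/-!
Element calculus for subobjects in an abelian category: generalised elements up to refinement.
-/

universe v u

open CategoryTheory CategoryTheory.Limits

namespace Groth.Agent.AR46

variable {C : Type u} [Category.{v} C] [Abelian C] {X Y Z T : C}

lemma factors_iff_comp_cokernel (S : Subobject X) (x : T ⟶ X) :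
    S.Factors x ↔ x ≫ cokernel.π S.arrow = 0 := by
  constructor
  · intro h
    rw [← S.factorThru_arrow x h, Category.assoc, cokernel.condition, comp_zero]
  · intro h
    have : Mono S.arrow := Subobject.arrow_mono S
    obtain ⟨l, hl⟩ : ∃ l, l ≫ S.arrow = x :=
      ⟨Abelian.monoLift S.arrow x h, Abelian.monoLift_comp _ _ _⟩
    exact hl ▸ Subobject.factors_comp_arrow l

lemma factors_of_epi_comp {S : Subobject X} {T' : C} (e : T' ⟶ T) [Epi e] {x : T ⟶ X}
    (h : S.Factors (e ≫ x)) : S.Factors x := by
  rw [factors_iff_comp_cokernel] at h ⊢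
  rwa [← cancel_epi e, comp_zero, ← Category.assoc]

lemma factors_sub {S : Subobject X} {x y : T ⟶ X} (hx : S.Factors x) (hy : S.Factors y) :
    S.Factors (x - y) := by
  rw [factors_iff_comp_cokernel] at hx hy ⊢
  simp [hx, hy]

lemma factors_add' {S : Subobject X} {x y : T ⟶ X} (hx : S.Factors x) (hy : S.Factors y) :
    S.Factors (x + y) := Subobject.factors_add _ _ hx hy

lemma le_iff_factors {S S' : Subobject X} :
    S ≤ S' ↔ ∀ ⦃T : C⦄ (x : T ⟶ X), S.Factors x → S'.Factors x :=
  ⟨fun h _ x hx => Subobject.factors_of_le x h hx,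
    fun h => Subobject.le_of_factors (h _ S.factors_self)⟩

lemma image_le_iff {f : Y ⟶ X} {S : Subobject X} : imageSubobject f ≤ S ↔ S.Factors f := by
  refine ⟨fun h => ?_, fun h => imageSubobject_le f (S.factorThru f h) (S.factorThru_arrow f h)⟩
  refine Subobject.factors_of_le _ h ?_
  rw [Subobject.factors_iff]
  exact ⟨factorThruImageSubobject f, imageSubobject_arrow_comp f⟩

lemma image_factors_iff {f : Y ⟶ X} (x : T ⟶ X) :
    (imageSubobject f).Factors x ↔
      ∃ (T' : C) (e : T' ⟶ T) (_ : Epi e) (y : T' ⟶ Y), e ≫ x = y ≫ f := by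
  constructor
  · intro h
    obtain ⟨T', e, he, y, hy⟩ := surjective_up_to_refinements_of_epi (factorThruImageSubobject f)
      ((imageSubobject f).factorThru x h)
    refine ⟨T', e, he, y, ?_⟩
    conv_lhs => rw [← (imageSubobject f).factorThru_arrow x h]
    rw [reassoc_of% hy, imageSubobject_arrow_comp]
  · rintro ⟨T', e, he, y, hy⟩
    refine factors_of_epi_comp e ?_
    rw [hy]
    exact Subobject.factors_of_factors_right y (image_le_iff.1 le_rfl)

lemma pullback_factors_iff {f : X ⟶ Y} {S : Subobject Y} (x : T ⟶ X) :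
    ((Subobject.pullback f).obj S).Factors x ↔ S.Factors (x ≫ f) := by
  obtain ⟨φ, hφ⟩ := Subobject.isPullback_aux f S
  constructor
  · intro h
    rw [← Subobject.factorThru_arrow _ x h, Category.assoc, ← hφ.w, ← Category.assoc]
    exact Subobject.factors_comp_arrow _
  · intro h
    rw [Subobject.factors_iff]
    exact ⟨hφ.lift (S.factorThru _ h) x (Subobject.factorThru_arrow _ _ h), hφ.lift_snd _ _ _⟩

lemma bot_factors {x : T ⟶ X} : (⊥ : Subobject X).Factors x ↔ x = 0 := Subobject.bot_factors_iff_zero x

lemma isNoetherianObject_of_epi (p : X ⟶ Y) [Epi p] [IsNoetherianObject X] :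
    IsNoetherianObject Y := by
  rw [isNoetherianObject_iff_monotone_chain_condition]
  intro f
  obtain ⟨n, hn⟩ := monotone_chain_condition_of_isNoetherianObject
    ⟨fun k => (Subobject.pullback p).obj (f k), fun i j h =>
      ((Subobject.pullback p).map (homOfLE (f.2 h))).le⟩
  refine ⟨n, fun m hm => le_antisymm (f.2 hm) (le_iff_factors.2 fun T x hx => ?_)⟩
  obtain ⟨T', e, _, y, hy⟩ := surjective_up_to_refinements_of_epi p x
  have : ((Subobject.pullback p).obj (f m)).Factors y :=
    (pullback_factors_iff y).2 (hy ▸ Subobject.factors_of_factors_right e hx)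
  rw [← show (Subobject.pullback p).obj (f n) = (Subobject.pullback p).obj (f m) from hn m hm,
    pullback_factors_iff, ← hy] at this
  exact factors_of_epi_comp e this

lemma isArtinianObject_of_epi (p : X ⟶ Y) [Epi p] [IsArtinianObject X] :
    IsArtinianObject Y := by
  rw [isArtinianObject_iff_antitone_chain_condition]
  intro f
  let g : ℕ → Subobject Y := fun k => OrderDual.ofDual (f k)
  have hg : ∀ {i j : ℕ}, i ≤ j → g j ≤ g i := fun h => f.monotone h
  let F : ℕ →o (Subobject X)ᵒᵈ :=
    ⟨fun k => OrderDual.toDual ((Subobject.pullback p).obj (g k)), fun i j h =>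
      OrderDual.toDual_le_toDual.2 ((Subobject.pullback p).map (homOfLE (hg h))).le⟩
  obtain ⟨n, hn⟩ := antitone_chain_condition_of_isArtinianObject F
  refine ⟨n, fun m hm => OrderDual.ofDual.injective
    (le_antisymm (le_iff_factors.2 fun T x hx => ?_) (hg hm))⟩
  obtain ⟨T', e, _, y, hy⟩ := surjective_up_to_refinements_of_epi p x
  have : ((Subobject.pullback p).obj (g n)).Factors y :=
    (pullback_factors_iff y).2 (hy ▸ Subobject.factors_of_factors_right e hx)
  rw [show (Subobject.pullback p).obj (g n) = (Subobject.pullback p).obj (g m) from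
      OrderDual.toDual.injective (hn m hm),
    pullback_factors_iff, ← hy] at this
  exact factors_of_epi_comp e this

lemma image_arrow_comp_mono (g : X ⟶ Y) {S S' : Subobject X} (h : S ≤ S') :
    imageSubobject (S.arrow ≫ g) ≤ imageSubobject (S'.arrow ≫ g) := by
  rw [← Subobject.ofLE_arrow h, Category.assoc]
  exact imageSubobject_comp_le _ _

section Extension

variable {S : ShortComplex C} (hS : S.Exact)

include hS

lemma le_of_ext_data {A B : Subobject S.X₂} (hAB : A ≤ B)
    (h₁ : (Subobject.pullback S.f).obj B ≤ (Subobject.pullback S.f).obj A)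
    (h₂ : imageSubobject (B.arrow ≫ S.g) ≤ imageSubobject (A.arrow ≫ S.g)) : B ≤ A := by
  refine le_iff_factors.2 fun T x hx => ?_
  have hx' : (imageSubobject (A.arrow ≫ S.g)).Factors (x ≫ S.g) :=
    Subobject.factors_of_le _ h₂ ((image_factors_iff _).2
      ⟨T, 𝟙 T, inferInstance, B.factorThru x hx,
        by rw [Category.id_comp, ← Category.assoc, Subobject.factorThru_arrow]⟩)
  obtain ⟨T₁, e₁, _, a, ha⟩ := (image_factors_iff _).1 hx'
  obtain ⟨T₂, e₂, _, z, hz⟩ := hS.exact_up_to_refinements (e₁ ≫ x - a ≫ A.arrow) (by simp [ha])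
  have hB : B.Factors (z ≫ S.f) := hz ▸ Subobject.factors_of_factors_right e₂
    (factors_sub (Subobject.factors_of_factors_right e₁ hx)
      (Subobject.factors_of_le _ hAB (Subobject.factors_comp_arrow a)))
  have hA : A.Factors (e₂ ≫ (e₁ ≫ x - a ≫ A.arrow)) :=
    hz ▸ (pullback_factors_iff z).1 (Subobject.factors_of_le _ h₁ ((pullback_factors_iff z).2 hB))
  refine factors_of_epi_comp e₁ ?_
  simpa using factors_add' (factors_of_epi_comp e₂ hA) (Subobject.factors_comp_arrow (P := A) a)

lemma isNoetherianObject_of_extension [IsNoetherianObject S.X₁] [IsNoetherianObject S.X₃] :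
    IsNoetherianObject S.X₂ := by
  rw [isNoetherianObject_iff_monotone_chain_condition]
  intro f
  obtain ⟨n, hn⟩ := monotone_chain_condition_of_isNoetherianObject
    ⟨fun k => (Subobject.pullback S.f).obj (f k), fun i j h =>
      ((Subobject.pullback S.f).map (homOfLE (f.2 h))).le⟩
  have hmono : Monotone fun k => imageSubobject ((f k).arrow ≫ S.g) := fun i j h =>
    image_arrow_comp_mono S.g (f.monotone h)
  obtain ⟨n', hn'⟩ := monotone_chain_condition_of_isNoetherianObject ⟨_, hmono⟩
  refine ⟨max n n', fun m hm => le_antisymm (f.2 hm) (le_of_ext_data hS (f.2 hm) ?_ ?_)⟩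
  · exact le_of_eq ((hn m ((le_max_left _ _).trans hm)).symm.trans (hn _ (le_max_left _ _)))
  · exact le_of_eq ((hn' m ((le_max_right _ _).trans hm)).symm.trans (hn' _ (le_max_right _ _)))

lemma isArtinianObject_of_extension [IsArtinianObject S.X₁] [IsArtinianObject S.X₃] :
    IsArtinianObject S.X₂ := by
  rw [isArtinianObject_iff_antitone_chain_condition]
  intro f
  let g : ℕ → Subobject S.X₂ := fun k => OrderDual.ofDual (f k)
  have hg : ∀ {i j : ℕ}, i ≤ j → g j ≤ g i := fun h => f.monotone h
  let F : ℕ →o (Subobject S.X₁)ᵒᵈ :=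
    ⟨fun k => OrderDual.toDual ((Subobject.pullback S.f).obj (g k)), fun i j h =>
      OrderDual.toDual_le_toDual.2 ((Subobject.pullback S.f).map (homOfLE (hg h))).le⟩
  let G : ℕ →o (Subobject S.X₃)ᵒᵈ :=
    ⟨fun k => OrderDual.toDual (imageSubobject ((g k).arrow ≫ S.g)), fun i j h =>
      OrderDual.toDual_le_toDual.2 (image_arrow_comp_mono S.g (hg h))⟩
  obtain ⟨n, hn⟩ := antitone_chain_condition_of_isArtinianObject F
  obtain ⟨n', hn'⟩ := antitone_chain_condition_of_isArtinianObject G
  refine ⟨max n n', fun m hm => OrderDual.ofDual.injective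
    (le_antisymm (le_of_ext_data hS (hg hm) ?_ ?_) (hg hm))⟩
  · exact le_of_eq (OrderDual.toDual.injective
      ((hn _ (le_max_left _ _)).symm.trans (hn m ((le_max_left _ _).trans hm))))
  · exact le_of_eq (OrderDual.toDual.injective
      ((hn' _ (le_max_right _ _)).symm.trans (hn' m ((le_max_right _ _).trans hm))))

end Extension

end Groth.Agent.AR46
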