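import Groth.Agent.AR46.Elem
import Mathlib.CategoryTheory.Preadditive.Biproducts

/-!
A Hilbert basis theorem for graded objects with finitely many commuting operators of degree one.
-/

universe v u

open CategoryTheory CategoryTheory.Limits

namespace Groth.Agent.AR46

variable {C : Type u} [Category.{v} C] [Abelian C] {X T : C}

/-- The sum of two subobjects. -/
noncomputable def sum2 (S S' : Subobject X) : Subobject X :=
  imageSubobject (biprod.desc S.arrow S'.arrow)

lemma sum2_factors_iff {S S' : Subobject X} (x : T ⟶ X) :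
    (sum2 S S').Factors x ↔ ∃ (T' : C) (e : T' ⟶ T) (_ : Epi e) (a b : T' ⟶ X),
      S.Factors a ∧ S'.Factors b ∧ e ≫ x = a + b := by
  rw [sum2, image_factors_iff]
  constructor
  · rintro ⟨T', e, he, y, hy⟩
    refine ⟨T', e, he, y ≫ biprod.fst ≫ S.arrow, y ≫ biprod.snd ≫ S'.arrow, ?_, ?_, ?_⟩
    · rw [← Category.assoc]; exact Subobject.factors_comp_arrow _
    · rw [← Category.assoc]; exact Subobject.factors_comp_arrow _
    · rw [hy, biprod.desc_eq, Preadditive.comp_add]
  · rintro ⟨T', e, he, a, b, ha, hb, h⟩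
    exact ⟨T', e, he, biprod.lift (S.factorThru a ha) (S'.factorThru b hb),
      by rw [h, biprod.lift_desc, Subobject.factorThru_arrow, Subobject.factorThru_arrow]⟩

lemma le_sum2_left (S S' : Subobject X) : S ≤ sum2 S S' := le_iff_factors.2 fun T x hx =>
  (sum2_factors_iff x).2 ⟨T, 𝟙 T, inferInstance, x, 0, hx, Subobject.factors_zero, by simp⟩

lemma le_sum2_right (S S' : Subobject X) : S' ≤ sum2 S S' := le_iff_factors.2 fun T x hx =>
  (sum2_factors_iff x).2 ⟨T, 𝟙 T, inferInstance, 0, x, Subobject.factors_zero, hx, by simp⟩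

lemma sum2_mono {S S' U U' : Subobject X} (h : S ≤ U) (h' : S' ≤ U') :
    sum2 S S' ≤ sum2 U U' := le_iff_factors.2 fun T x hx => by
  obtain ⟨T', e, he, a, b, ha, hb, hab⟩ := (sum2_factors_iff x).1 hx
  exact (sum2_factors_iff x).2
    ⟨T', e, he, a, b, Subobject.factors_of_le _ h ha, Subobject.factors_of_le _ h' hb, hab⟩

lemma sum2_map {Y : C} (f : X ⟶ Y) {S S' : Subobject X} {U U' : Subobject Y}
    (h : ∀ {T : C} (x : T ⟶ X), S.Factors x → U.Factors (x ≫ f))
    (h' : ∀ {T : C} (x : T ⟶ X), S'.Factors x → U'.Factors (x ≫ f)) {x : T ⟶ X}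
    (hx : (sum2 S S').Factors x) : (sum2 U U').Factors (x ≫ f) := by
  obtain ⟨T', e, he, a, b, ha, hb, hab⟩ := (sum2_factors_iff x).1 hx
  refine (sum2_factors_iff _).2 ⟨T', e, he, a ≫ f, b ≫ f, h a ha, h' b hb, ?_⟩
  rw [← Category.assoc, hab, Preadditive.add_comp]

section Graded

variable {N : ℕ → C}

/-- A family stable under an operator of degree one. -/
def StableOp (θ : ∀ q, N q ⟶ N (q + 1)) (S : ∀ q, Subobject (N q)) : Prop :=
  ∀ (q : ℕ) {T : C} (x : T ⟶ N q), (S q).Factors x → (S (q + 1)).Factors (x ≫ θ q)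

/-- Two operators commute. -/
def CommOp (θ θ' : ∀ q, N q ⟶ N (q + 1)) : Prop := ∀ q, θ q ≫ θ' (q + 1) = θ' q ≫ θ (q + 1)

variable (t : ∀ q, N q ⟶ N (q + 1))

/-- Iterates of an operator. -/
def opPow : ∀ (j q : ℕ), N q ⟶ N (q + j)
  | 0, _ => 𝟙 _
  | j + 1, q => opPow j q ≫ t (q + j)

/-- Iterates of an operator, with a free target index. -/
def opTo (j q p : ℕ) (h : q + j = p) : N q ⟶ N p := opPow t j q ≫ eqToHom (by rw [h])

lemma opTo_rfl (j q : ℕ) : opTo t j q (q + j) rfl = opPow t j q := by simp [opTo]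

lemma opTo_succ (j q p : ℕ) (h : q + j = p) :
    opTo t (j + 1) q (p + 1) (by omega) = opTo t j q p h ≫ t p := by
  subst h
  simp [opTo, opPow]

lemma opTo_comm {θ : ∀ q, N q ⟶ N (q + 1)} (hθ : CommOp θ t) :
    ∀ (j q p : ℕ) (h : q + j = p), θ q ≫ opTo t j (q + 1) (p + 1) (by omega) = opTo t j q p h ≫ θ p
  | 0, q, p, h => by
    obtain rfl : p = q := by omega
    simp [opTo, opPow]
  | j + 1, q, p, h => by
    obtain ⟨p', rfl⟩ : ∃ p', p = p' + 1 := ⟨q + j, by omega⟩
    rw [opTo_succ t j (q + 1) (p' + 1) (by omega), opTo_succ t j q p' (by omega), Category.assoc,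
      ← hθ, ← Category.assoc, opTo_comm hθ j q p' (by omega), Category.assoc]

variable (B : ∀ q, Subobject (N q))

/-- Filtration by the exponent of `t`. -/
noncomputable def filt : ∀ (_ p : ℕ), Subobject (N p)
  | 0, _ => ⊥
  | j + 1, p => if h : j ≤ p then
      sum2 (filt j p) (imageSubobject ((B (p - j)).arrow ≫ opTo t j (p - j) p (by omega)))
    else filt j p

lemma filt_le_succ (j p : ℕ) : filt t B j p ≤ filt t B (j + 1) p := by
  change _ ≤ dite _ _ _
  split_ifs with h
  · exact le_sum2_left _ _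
  · exact le_rfl

lemma filt_succ_cases {j p : ℕ} {x : T ⟶ N p} (hx : (filt t B (j + 1) p).Factors x) :
    ∃ (T' : C) (e : T' ⟶ T) (_ : Epi e) (g : T' ⟶ N p), (filt t B j p).Factors g ∧
      (e ≫ x = g ∨ ∃ (q : ℕ) (h : q + j = p) (y : T' ⟶ N q), (B q).Factors y ∧
        e ≫ x = g + y ≫ opTo t j q p h) := by
  change (dite _ _ _ : Subobject (N p)).Factors x at hx
  split_ifs at hx with h
  · obtain ⟨T₁, e₁, he₁, g, b, hg, hb, hgb⟩ := (sum2_factors_iff x).1 hx
    obtain ⟨T₂, e₂, he₂, y, hy⟩ := (image_factors_iff b).1 hb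
    refine ⟨T₂, e₂ ≫ e₁, inferInstance, e₂ ≫ g, Subobject.factors_of_factors_right _ hg,
      Or.inr ⟨p - j, by omega, y ≫ (B (p - j)).arrow, Subobject.factors_comp_arrow y, ?_⟩⟩
    rw [Category.assoc, Category.assoc, hgb, Preadditive.comp_add, hy]
  · exact ⟨T, 𝟙 T, inferInstance, x, hx, Or.inl (Category.id_comp x)⟩

lemma opTo_mem_filt {j q p : ℕ} (h : q + j = p) {y : T ⟶ N q} (hy : (B q).Factors y) :
    (filt t B (j + 1) p).Factors (y ≫ opTo t j q p h) := by
  change (dite _ _ _ : Subobject (N p)).Factors _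
  rw [dif_pos (show j ≤ p by omega)]
  refine Subobject.factors_of_le _ (le_sum2_right _ _) ?_
  have : ∀ (q' : ℕ) (h' : q' + j = p),
      (imageSubobject ((B q').arrow ≫ opTo t j q' p h')).Factors (y ≫ opTo t j q p h) := by
    intro q' h'
    obtain rfl : q' = q := by omega
    exact (image_factors_iff _).2 ⟨T, 𝟙 T, inferInstance, (B q').factorThru y hy,
      by rw [Category.id_comp, ← Category.assoc, Subobject.factorThru_arrow]⟩
  exact this _ _

lemma filt_op : ∀ (j p : ℕ) {T : C} (x : T ⟶ N p), (filt t B j p).Factors x →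
    (filt t B (j + 1) (p + 1)).Factors (x ≫ t p)
  | 0, p, T, x, hx => by
    rw [show x = 0 from bot_factors.1 hx, zero_comp]
    exact Subobject.factors_zero
  | j + 1, p, T, x, hx => by
    obtain ⟨T', e, he, g, hg, hcase⟩ := filt_succ_cases t B hx
    refine factors_of_epi_comp e ?_
    have hg' := Subobject.factors_of_le _ (filt_le_succ t B _ _) (filt_op j p g hg)
    rcases hcase with h | ⟨q, hq, y, hy, h⟩
    · rw [reassoc_of% h]; exact hg'
    · rw [reassoc_of% h, Preadditive.add_comp, Category.assoc, ← opTo_succ t j q p hq]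
      exact factors_add' hg' (opTo_mem_filt t B _ hy)

lemma filt_other {θ : ∀ q, N q ⟶ N (q + 1)} (hθ : CommOp θ t) (hB : StableOp θ B) :
    ∀ (j p : ℕ) {T : C} (x : T ⟶ N p), (filt t B j p).Factors x →
    (filt t B j (p + 1)).Factors (x ≫ θ p)
  | 0, p, T, x, hx => by
    rw [show x = 0 from bot_factors.1 hx, zero_comp]
    exact Subobject.factors_zero
  | j + 1, p, T, x, hx => by
    obtain ⟨T', e, he, g, hg, hcase⟩ := filt_succ_cases t B hx
    refine factors_of_epi_comp e ?_
    have hg' := Subobject.factors_of_le _ (filt_le_succ t B _ _) (filt_other hθ hB j p g hg)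
    rcases hcase with h | ⟨q, hq, y, hy, h⟩
    · rw [reassoc_of% h]; exact hg'
    · rw [reassoc_of% h, Preadditive.add_comp, Category.assoc, ← opTo_comm t hθ j q p hq,
        ← Category.assoc]
      exact factors_add' hg' (opTo_mem_filt t B _ (hB q y hy))

/-- The family generated in degree zero by `G`. -/
noncomputable def genFam (G : Subobject (N 0)) :
    ∀ (k : ℕ) (_ : Fin k → ∀ q, N q ⟶ N (q + 1)) (p : ℕ), Subobject (N p)
  | 0, _, 0 => G
  | 0, _, _ + 1 => ⊥
  | k + 1, θ, p => filt (θ (Fin.last k)) (genFam G k fun i => θ i.castSucc) (p + 1) p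

variable (G : Subobject (N 0))

lemma le_genFam_zero : ∀ (k : ℕ) (θ : Fin k → ∀ q, N q ⟶ N (q + 1)), G ≤ genFam G k θ 0
  | 0, _ => le_rfl
  | k + 1, θ => le_iff_factors.2 fun T x hx => by
    have := opTo_mem_filt (θ (Fin.last k)) (genFam G k fun i => θ i.castSucc) (j := 0) (q := 0)
      (p := 0) rfl (Subobject.factors_of_le x (le_genFam_zero k _) hx)
    simp [opTo, opPow] at this
    exact this

lemma genFam_stable : ∀ (k : ℕ) (θ : Fin k → ∀ q, N q ⟶ N (q + 1)),
    (∀ i j, CommOp (θ i) (θ j)) → ∀ i, StableOp (θ i) (genFam G k θ)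
  | 0, _, _, i => i.elim0
  | k + 1, θ, hc, i => fun q T x hx => by
    induction i using Fin.lastCases with
    | last => exact filt_op _ _ _ _ x hx
    | cast i =>
      exact Subobject.factors_of_le _ (filt_le_succ _ _ _ _)
        (filt_other _ _ (hc _ _)
          (genFam_stable k (fun i => θ i.castSucc) (fun a b => hc _ _) i) _ _ x hx)

theorem stable_chain_stationary [IsNoetherianObject (G : C)] :
    ∀ (k : ℕ) (θ : Fin k → ∀ q, N q ⟶ N (q + 1)), (∀ i j, CommOp (θ i) (θ j)) →
      ∀ S : ℕ → ∀ q, Subobject (N q), (∀ i, ∀ l, StableOp (θ l) (S i)) →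
        (∀ i q, S i q ≤ genFam G k θ q) → Monotone S → ∃ K, ∀ i, K ≤ i → S i = S K
  | 0, θ, _, S, _, hle, hmono => by
    have key : ∀ i, ((Subobject.map G.arrow).obj ((Subobject.pullback G.arrow).obj (S i 0))) = S i 0 := by
      intro i
      refine le_antisymm ((Subobject.mapPullbackAdj G.arrow).counit.app (S i 0)).le ?_
      refine le_iff_factors.2 fun T x hx => ?_
      have hxG : G.Factors x := Subobject.factors_of_le x (hle i 0) hx
      have h1 : ((Subobject.pullback G.arrow).obj (S i 0)).Factors (G.factorThru x hxG) := by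
        rw [pullback_factors_iff, Subobject.factorThru_arrow]; exact hx
      rw [← G.factorThru_arrow x hxG, ← Subobject.factorThru_arrow _ _ h1, Category.assoc]
      have h2 : (Subobject.map G.arrow).obj ((Subobject.pullback G.arrow).obj (S i 0)) =
          Subobject.mk (((Subobject.pullback G.arrow).obj (S i 0)).arrow ≫ G.arrow) := by
        conv_lhs => rw [← Subobject.mk_arrow ((Subobject.pullback G.arrow).obj (S i 0)),
          Subobject.map_mk]
      rw [h2]
      exact Subobject.factors_of_factors_right _ (Subobject.mk_factors_self _)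
    obtain ⟨K, hK⟩ := monotone_chain_condition_of_isNoetherianObject (X := (G : C))
      ⟨fun i => (Subobject.pullback G.arrow).obj (S i 0), fun a b h =>
        ((Subobject.pullback G.arrow).map (homOfLE (hmono h 0))).le⟩
    refine ⟨K, fun i hi => funext fun q => ?_⟩
    cases q with
    | zero => exact (key i).symm.trans ((congrArg _ (hK i hi).symm).trans (key K))
    | succ q => exact (le_bot_iff.1 (hle i (q + 1))).trans (le_bot_iff.1 (hle K (q + 1))).symm
  | k + 1, θ, hc, S, hS, hle, hmono => by
    let t := θ (Fin.last k)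
    let θ' : Fin k → ∀ q, N q ⟶ N (q + 1) := fun i => θ i.castSucc
    let B := genFam G k θ'
    let L : ℕ → ℕ → ∀ q, Subobject (N q) := fun i j q =>
      B q ⊓ (Subobject.pullback (opPow t j q)).obj (sum2 (S i (q + j)) (filt t B j (q + j)))
    have hLf : ∀ {i j q : ℕ} {T : C} {x : T ⟶ N q}, (L i j q).Factors x ↔
        (B q).Factors x ∧ (sum2 (S i (q + j)) (filt t B j (q + j))).Factors (x ≫ opPow t j q) := by
      intro i j q T x
      rw [Subobject.inf_factors, pullback_factors_iff]
    have hLst : ∀ i j l, StableOp (θ' l) (L i j) := by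
      intro i j l q T x hx
      rw [hLf] at hx ⊢
      have hBl := genFam_stable G k θ' (fun a b => hc _ _) l
      refine ⟨hBl q x hx.1, ?_⟩
      have e : q + 1 + j = q + j + 1 := by omega
      have h1 : (sum2 (S i (q + j + 1)) (filt t B j (q + j + 1))).Factors
          ((x ≫ opPow t j q) ≫ θ' l (q + j)) :=
        sum2_map _ (fun y hy => hS i _ _ y hy)
          (fun y hy => filt_other t B (hc _ _) hBl j _ y hy) hx.2
      have h2 : ∀ p (hp : q + 1 + j = p) (hp' : q + j + 1 = p),
          (sum2 (S i p) (filt t B j p)).Factors (x ≫ θ' l q ≫ opTo t j (q + 1) p hp) := by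
        rintro p hp rfl
        rw [opTo_comm t (hc _ _) j q (q + j) rfl, opTo_rfl]
        simpa using h1
      simpa [opTo_rfl] using h2 _ rfl e.symm
    have hLi : ∀ {i i' j q : ℕ}, i ≤ i' → L i j q ≤ L i' j q := fun h =>
      le_iff_factors.2 fun T x hx => hLf.2 ⟨(hLf.1 hx).1,
        Subobject.factors_of_le _ (sum2_mono (hmono h _) le_rfl) (hLf.1 hx).2⟩
    have hLj1 : ∀ {i j q : ℕ}, L i j q ≤ L i (j + 1) q := fun {i j q} =>
      le_iff_factors.2 fun T x hx => hLf.2 ⟨(hLf.1 hx).1, by
        change (sum2 (S i (q + j + 1)) (filt t B (j + 1) (q + j + 1))).Factors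
          (x ≫ opPow t j q ≫ t (q + j))
        rw [← Category.assoc]
        exact sum2_map _ (fun y hy => hS i _ _ y hy) (fun y hy => filt_op t B j _ y hy)
          (hLf.1 hx).2⟩
    have hLj : ∀ {i j j' q : ℕ}, j ≤ j' → L i j q ≤ L i j' q := fun {i j j' q} h => by
      induction h with
      | refl => exact le_rfl
      | step _ ih => exact ih.trans hLj1
    have IH := fun (S' : ℕ → ∀ q, Subobject (N q)) h₁ h₂ h₃ =>
      stable_chain_stationary k θ' (fun a b => hc _ _) S' h₁ h₂ h₃
    obtain ⟨d, hd⟩ := IH (fun i => L i i) (fun i l => hLst i i l) (fun i q => inf_le_left)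
      (fun a b h q => (hLi h).trans (hLj h))
    choose κ hκ using fun j => IH (fun i => L i j) (fun i l => hLst i j l)
      (fun i q => inf_le_left) (fun a b h q => hLi h)
    let K := max d ((Finset.range d).sup κ)
    refine ⟨K, fun i hi => funext fun p => le_antisymm ?_ (hmono hi p)⟩
    have hL : ∀ j q, L i j q ≤ L K j q := by
      intro j q
      by_cases hj : j < d
      · have hjK : κ j ≤ K := (Finset.le_sup (Finset.mem_range.2 hj)).trans (le_max_right _ _)
        exact (congrFun (hκ j i (hjK.trans hi)) q).le.trans (congrFun (hκ j K hjK) q).ge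
      · have hdj : d ≤ j := Nat.le_of_not_lt hj
        exact (((hLi (le_max_left i j)).trans (hLj (le_max_right i j))).trans
          (congrFun (hd _ (hdj.trans (le_max_right i j))) q).le).trans
          ((hLi (le_max_left _ _)).trans (hLj hdj))
    suffices H : ∀ (j : ℕ) {T : C} (x : T ⟶ N p), (S i p).Factors x → (filt t B j p).Factors x →
        (S K p).Factors x from
      le_iff_factors.2 fun T x hx => H (p + 1) x hx (Subobject.factors_of_le x (hle i p) hx)
    intro j
    induction j with
    | zero =>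
      intro T x _ hx
      rw [show x = 0 from bot_factors.1 hx]
      exact Subobject.factors_zero
    | succ j ih =>
      intro T x hxS hx
      obtain ⟨T₁, e, he, g, hg, hcase⟩ := filt_succ_cases t B hx
      refine factors_of_epi_comp e ?_
      have hexS := Subobject.factors_of_factors_right e hxS
      rcases hcase with h | ⟨q, rfl, y, hy, h⟩
      · exact h ▸ ih g (h ▸ hexS) hg
      · rw [opTo_rfl] at h
        have hy1 : (L i j q).Factors y := hLf.2 ⟨hy, (sum2_factors_iff _).2
          ⟨T₁, 𝟙 _, inferInstance, e ≫ x, -g, hexS,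
            by simpa using factors_sub Subobject.factors_zero hg, by rw [h]; simp⟩⟩
        obtain ⟨T₂, e₂, he₂, s, g', hs, hg', hsg⟩ :=
          (sum2_factors_iff _).1 (hLf.1 (Subobject.factors_of_le _ (hL j q) hy1)).2
        have h' : e₂ ≫ e ≫ x - s = e₂ ≫ g + g' := by
          rw [h, Preadditive.comp_add, hsg]; abel
        have h3 := ih (e₂ ≫ e ≫ x - s)
          (factors_sub (Subobject.factors_of_factors_right _ hexS)
            (Subobject.factors_of_le _ (hmono hi _) hs))
          (h' ▸ factors_add' (Subobject.factors_of_factors_right _ hg) hg')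
        refine factors_of_epi_comp e₂ ?_
        simpa using factors_add' h3 hs

end Graded

end Groth.Agent.AR46
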