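import Groth.Prelude.Def_ARSys
import Mathlib.CategoryTheory.Preadditive.Injective.Basic
import Mathlib.CategoryTheory.Functor.OfSequence
import Mathlib.CategoryTheory.Limits.FunctorCategory.EpiMono
import Mathlib.CategoryTheory.Abelian.FunctorCategory

/-!
Injective projective systems.
-/

universe v u

open CategoryTheory CategoryTheory.Limits Opposite

namespace Groth.Agent.AR46

variable {A : Type u} [Category.{v} A] [Abelian A]

open ZeroObject

/-- The objects of the system concentrated in degree zero. -/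
noncomputable def zeroDegObj (M : A) : ℕ → A
  | 0 => M
  | _ + 1 => 0

/-- The system concentrated in degree zero. -/
noncomputable def zeroDeg (M : A) : ℕᵒᵖ ⥤ A :=
  Functor.ofOpSequence (X := zeroDegObj M) fun _ => 0

/-- Maps out of a system concentrated in degree zero. -/
noncomputable def zeroDegDesc (M : A) (X : ℕᵒᵖ ⥤ A) (f : M ⟶ X.obj (op 0)) : zeroDeg M ⟶ X :=
  NatTrans.ofOpSequence (fun
    | 0 => f
    | _ + 1 => 0) fun n => (isZero_zero A).eq_of_src _ _

lemma enoughInjectives_of_functor [EnoughInjectives (ℕᵒᵖ ⥤ A)] : EnoughInjectives A := by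
  refine ⟨fun M => ?_⟩
  let I := Injective.under (zeroDeg M)
  have hI : Injective (I.obj (op 0)) := by
    refine ⟨fun {P Q} g f hf => ?_⟩
    let F : zeroDeg P ⟶ zeroDeg Q := zeroDegDesc P _ f
    have : ∀ n, Mono (F.app n) := by
      rintro ⟨n⟩
      cases n with
      | zero => exact hf
      | succ n => exact ⟨fun a b _ => (isZero_zero A).eq_of_tgt _ _⟩
    have : Mono F := NatTrans.mono_of_mono_app F
    refine ⟨(Injective.factorThru (zeroDegDesc P I g) F).app (op 0), ?_⟩
    have := congrArg (fun t => NatTrans.app t (op 0))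
      (Injective.comp_factorThru (zeroDegDesc P I g) F)
    exact this
  exact ⟨{ J := I.obj (op 0)
           f := (Injective.ι (zeroDeg M)).app (op 0)
           mono := inferInstanceAs (Mono (((evaluation ℕᵒᵖ A).obj (op 0)).map _)) }⟩

variable (E : ℕ → A)

/-- Finite products `E n ⊞ ⋯ ⊞ E 0`. -/
noncomputable def prodObj : ℕ → A
  | 0 => E 0
  | n + 1 => E (n + 1) ⊞ prodObj n

/-- The system of finite products. -/
noncomputable def prodSys : ℕᵒᵖ ⥤ A :=
  Functor.ofOpSequence (X := prodObj E) fun _ => biprod.snd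

lemma prodSys_succ (n : ℕ) : (prodSys E).map (homOfLE n.le_succ).op = biprod.snd :=
  Functor.ofOpSequence_map_homOfLE_succ _ n

variable {E}

/-- The map into the system of finite products. -/
noncomputable def prodLiftApp (X : ℕᵒᵖ ⥤ A) (j : ∀ n, X.obj (op n) ⟶ E n) :
    ∀ n, X.obj (op n) ⟶ prodObj E n
  | 0 => j 0
  | n + 1 => biprod.lift (j (n + 1)) (X.map (homOfLE n.le_succ).op ≫ prodLiftApp X j n)

/-- The map into the system of finite products. -/
noncomputable def prodLift (X : ℕᵒᵖ ⥤ A) (j : ∀ n, X.obj (op n) ⟶ E n) : X ⟶ prodSys E :=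
  NatTrans.ofOpSequence (prodLiftApp X j) fun n => by
    refine Eq.trans ?_ (congrArg (prodLiftApp X j (n + 1) ≫ ·) (prodSys_succ E n)).symm
    exact (biprod.lift_snd _ _).symm

/-- The projection to `E n`. -/
noncomputable def prodProj : ∀ n, prodObj E n ⟶ E n
  | 0 => 𝟙 _
  | _ + 1 => biprod.fst

lemma prodLift_proj (X : ℕᵒᵖ ⥤ A) (j : ∀ n, X.obj (op n) ⟶ E n) :
    ∀ n, prodLiftApp X j n ≫ prodProj n = j n
  | 0 => Category.comp_id _
  | _ + 1 => biprod.lift_fst _ _

lemma prodSys_hom_ext {X : ℕᵒᵖ ⥤ A} (a b : X ⟶ prodSys E)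
    (h : ∀ n, a.app (op n) ≫ prodProj n = b.app (op n) ≫ prodProj n) : a = b := by
  have key : ∀ n, a.app (op n) = b.app (op n) := by
    intro n
    induction n with
    | zero => exact ((Category.comp_id _).symm.trans (h 0)).trans (Category.comp_id _)
    | succ n ih =>
      refine biprod.hom_ext _ _ (h (n + 1)) ?_
      refine (congrArg (a.app (op (n + 1)) ≫ ·) (prodSys_succ E n).symm).trans ?_
      refine (a.naturality _).symm.trans (((congrArg (_ ≫ ·) ih).trans (b.naturality _)).trans ?_)
      exact congrArg (b.app (op (n + 1)) ≫ ·) (prodSys_succ E n)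
  ext ⟨n⟩
  exact key n

lemma injective_prodSys [∀ n, Injective (E n)] : Injective (prodSys E) := by
  refine ⟨fun {P Q} g f hf => ?_⟩
  have hmono : ∀ n, Mono (f.app n) := fun n =>
    inferInstanceAs (Mono (((evaluation ℕᵒᵖ A).obj n).map f))
  choose h hh using fun n => Injective.factors (g.app (op n) ≫ prodProj n) (f.app (op n))
  refine ⟨prodLift Q h, prodSys_hom_ext _ _ fun n => ?_⟩
  change (f.app (op n) ≫ prodLiftApp Q h n) ≫ prodProj n = _
  rw [Category.assoc, prodLift_proj, hh]

lemma enoughInjectives_functor [EnoughInjectives A] : EnoughInjectives (ℕᵒᵖ ⥤ A) := by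
  refine ⟨fun X => ?_⟩
  let E : ℕ → A := fun n => Injective.under (X.obj (op n))
  let j : ∀ n, X.obj (op n) ⟶ E n := fun n => Injective.ι _
  have : ∀ n : ℕᵒᵖ, Mono ((prodLift X j).app n) := fun n =>
    haveI : Mono (j n.unop) := inferInstanceAs (Mono (Injective.ι _))
    mono_of_mono_fac (show prodLiftApp X j n.unop ≫ prodProj n.unop = j n.unop from
      prodLift_proj X j n.unop)
  have : Mono (prodLift X j) := NatTrans.mono_of_mono_app _
  exact ⟨{ J := prodSys E, injective := injective_prodSys, f := prodLift X j }⟩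

end Groth.Agent.AR46
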