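import Groth.Agent.AR46.Adapted
import Groth.Agent.AR46.Hilbert
import Mathlib.Algebra.Homology.ShortComplex.Exact

/-!
Noetherian and Artinian adic systems over a Noetherian ring.
-/

universe w v u

open CategoryTheory CategoryTheory.Limits Opposite ARSys

namespace Groth.Agent.AR46

variable {C : Type u} [Category.{v} C] [Abelian C] {A : Type w} [CommRing A] [Linear A C]
  {J : Ideal A} {X : PS C}

lemma isAdapted_of_isAdic (hX : IsAdic J X) : IsAdapted J X := by
  intro n p hp a ha
  rw [smul_eq_comp]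
  refine eq_zero_of_lei ?_ (hX.1 n)
  have hlei : LEI (J ^ (n + 1 - p)) (Fsub X (n + 1 - p) n).arrow := by
    rcases Nat.eq_zero_or_pos (n + 1 - p) with h | h
    · rw [h]; exact lei_pow_zero _ _
    · have h0 := ((fsub_factors_iff _).1 (Subobject.factors_self (Fsub X (n + 1 - p) n))
        (n - p) (by omega)).1 (by omega)
      exact lei_mono_ideal (Ideal.pow_le_pow_right (by omega))
        (IsAdicKer.lei hX _ h0)
  exact lei_mono_ideal ((pow_add J p _).symm.trans_le (Ideal.pow_le_pow_right (by omega)))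
    (lei_smul_mul ha hlei)

lemma exists_theta (hX : IsAdic J X) {a : A} (ha : a ∈ J) :
    ∃ θ : ∀ q, X.obj (op q) ⟶ X.obj (op (q + 1)),
      ∀ q, tr X q.le_succ ≫ θ q = a • 𝟙 (X.obj (op (q + 1))) := by
  choose θ hθ _ using fun q => (hX.2 q (q + 1) q.le_succ).2 _ (a • 𝟙 (X.obj (op (q + 1))))
    fun b hb => by
      rw [smul_smul]
      exact hX.1 (q + 1) (b * a) (by rw [pow_succ]; exact Ideal.mul_mem_mul hb ha)
  exact ⟨θ, hθ⟩

lemma isGrSub_index {M : (q : ℕ) → Subobject (X.obj (op q))} (hM : IsGrSub J X M) {p q m : ℕ}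
    (h : p + q = m) {a : A} (ha : a ∈ J ^ p) {T : C} (x : T ⟶ X.obj (op m))
    (hx : (M q).Factors (x ≫ tr X (show q ≤ m by omega))) : (M m).Factors (a • x) := by
  subst h
  exact (isGrSub_iff.1 hM).2 p q a ha x hx

lemma exists_operators (hX : IsAdic J X) [IsNoetherianRing A] :
    ∃ (k : ℕ) (θ : Fin k → ∀ q, X.obj (op q) ⟶ X.obj (op (q + 1))),
      (∀ i j, CommOp (θ i) (θ j)) ∧
      (∀ q, Fsub X q q ≤ genFam (N := fun q => X.obj (op q)) (⊤ : Subobject (X.obj (op 0))) k θ q) ∧
      ∀ M : (q : ℕ) → Subobject (X.obj (op q)), IsGrSub J X M → ∀ i, StableOp (θ i) M := by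
  obtain ⟨k, a, ha⟩ := Submodule.fg_iff_exists_fin_generating_family.1 (IsNoetherian.noetherian J)
  have haJ : ∀ i, a i ∈ J := fun i => ha ▸ Submodule.subset_span ⟨i, rfl⟩
  choose θ hθ using fun i => exists_theta hX (haJ i)
  have hepi : ∀ q, Epi (tr X (Nat.le_succ q)) := fun q => isStrict_of_isAdic hX _ _ _
  have hc : ∀ i j, CommOp (θ i) (θ j) := by
    intro i j q
    have := hepi q
    have := hepi (q + 1)
    have key : ∀ i j, tr X (q + 1).le_succ ≫ tr X q.le_succ ≫ θ i q ≫ θ j (q + 1) =
        (a i * a j) • 𝟙 (X.obj (op (q + 1 + 1))) := fun i j => by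
      rw [reassoc_of% hθ i q, Linear.smul_comp, Category.id_comp, Linear.comp_smul, hθ j (q + 1),
        smul_smul]
    rw [← cancel_epi (tr X q.le_succ), ← cancel_epi (tr X (q + 1).le_succ), key, key, mul_comm]
  let Gf := genFam (N := fun q => X.obj (op q)) (⊤ : Subobject (X.obj (op 0))) k θ
  refine ⟨k, θ, hc, fun q => ?_, fun M hM i q T x hx => ?_⟩
  · induction q with
    | zero => exact le_trans le_top (le_genFam_zero _ k θ)
    | succ q ih =>
      refine Subobject.le_of_factors ((factors_iff_comp_cokernel (Gf (q + 1)) _).2 ?_)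
      have hlei : LEI (J ^ (q + 1)) (Fsub X (q + 1) (q + 1)).arrow :=
        IsAdicKer.lei hX q.le_succ
          (((fsub_factors_iff _).1 (Subobject.factors_self _) q rfl).1 _)
      refine hlei _ fun c hc' => ?_
      rw [pow_succ'] at hc'
      refine Submodule.mul_induction_on hc' (fun r hr b hb => ?_)
        (fun c₁ c₂ h₁ h₂ => by rw [add_smul, h₁, h₂, add_zero])
      rw [← ha] at hr
      induction hr using Submodule.span_induction with
      | mem r hr =>
        obtain ⟨i, rfl⟩ := hr
        have h1 : (Fsub X q q).Factors (b • tr X q.le_succ) := by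
          simpa using smul_mem_fsub (isAdapted_of_isAdic hX) (q := 0) hb
            (Subobject.top_factors (tr X q.le_succ))
        have h2 := genFam_stable _ k θ hc i q _ (Subobject.factors_of_le _ ih h1)
        have h3 := (factors_iff_comp_cokernel _ _).1 h2
        rw [Linear.smul_comp, hθ i q, smul_smul, Linear.smul_comp, Category.id_comp,
          mul_comm] at h3
        exact h3
      | zero => rw [zero_mul, zero_smul]
      | add c₁ c₂ _ _ h₁ h₂ => rw [add_mul, add_smul, h₁, h₂, add_zero]
      | smul c r _ h => rw [smul_eq_mul, mul_assoc, mul_smul, h, smul_zero]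
  · have := hepi q
    obtain ⟨T', e, he, x', hx'⟩ := surjective_up_to_refinements_of_epi (tr X q.le_succ) x
    refine factors_of_epi_comp e ?_
    rw [reassoc_of% hx', hθ, smul_eq_comp]
    refine isGrSub_index hM (Nat.add_comm 1 q) (by rw [pow_one]; exact haJ i) x' ?_
    rw [← hx']
    exact Subobject.factors_of_factors_right e hx

lemma isNoetherian_top {Y : C} (h : IsNoetherianObject Y) :
    IsNoetherianObject ((⊤ : Subobject Y) : C) :=
  isNoetherianObject_of_mono (⊤ : Subobject Y).arrow

theorem grSub_chain_stationary [IsNoetherianRing A] (hX : IsAdic J X)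
    (h0 : IsNoetherianObject (X.obj (op 0)))
    (M : ℕ → (q : ℕ) → Subobject (X.obj (op q))) (hM : ∀ i, IsGrSub J X (M i)) (hmono : Monotone M) :
    ∃ K, ∀ i, K ≤ i → M i = M K := by
  obtain ⟨k, θ, hc, hle, hst⟩ := exists_operators hX
  have := isNoetherian_top h0
  exact stable_chain_stationary _ k θ hc M (fun i => hst _ (hM i))
    (fun i q => ((hM i).1 q).trans (hle q)) hmono

lemma epi_factorThru {Y Z : C} (f : Y ⟶ Z) : Epi (factorThruImageSubobject f) := inferInstance

section Closure

variable {P : C → Prop}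

lemma genFam_prop {N : ℕ → C} (hz : ∀ Y : C, IsZero Y → P Y)
    (he : ∀ {Y Z : C} (f : Y ⟶ Z), Epi f → P Y → P Z)
    (hs : ∀ Y Z : C, P Y → P Z → P (Y ⊞ Z)) {G : Subobject (N 0)} (hG : P (G : C)) :
    ∀ (k : ℕ) (θ : Fin k → ∀ q, N q ⟶ N (q + 1)) (p : ℕ), P (genFam G k θ p : C)
  | 0, _, 0 => hG
  | 0, _, p + 1 => hz _ (IsZero.of_iso (isZero_zero C) (Subobject.botCoeIsoZero (B := N (p + 1))))
  | k + 1, θ, p => by
    suffices H : ∀ j p, P (filt (θ (Fin.last k)) (genFam G k fun i => θ i.castSucc) j p : C) from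
      H (p + 1) p
    intro j
    induction j with
    | zero => exact fun p => hz _ (IsZero.of_iso (isZero_zero C) Subobject.botCoeIsoZero)
    | succ j ih =>
      intro p
      change P ((dite _ _ _ : Subobject (N p)) : C)
      split_ifs with h
      · refine he (factorThruImageSubobject _) (epi_factorThru _) (hs _ _ (ih p) ?_)
        exact he (factorThruImageSubobject _) (epi_factorThru _) (genFam_prop hz he hs hG k _ _)
      · exact ih p

lemma prop_of_isAdic [IsNoetherianRing A] (hX : IsAdic J X) (hz : ∀ Y : C, IsZero Y → P Y)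
    (he : ∀ {Y Z : C} (f : Y ⟶ Z), Epi f → P Y → P Z)
    (hm : ∀ {Y Z : C} (f : Y ⟶ Z), Mono f → P Z → P Y)
    (hext : ∀ S : ShortComplex C, S.Exact → P S.X₁ → P S.X₃ → P S.X₂)
    (h0 : P (X.obj (op 0))) : ∀ n, P (X.obj (op n)) := by
  have hs : ∀ Y Z : C, P Y → P Z → P (Y ⊞ Z) := fun Y Z hY hZ =>
    hext _ (ShortComplex.Splitting.ofHasBinaryBiproduct Y Z).exact hY hZ
  obtain ⟨k, θ, -, hle, -⟩ := exists_operators hX
  intro n
  induction n with
  | zero => exact h0
  | succ n ih =>
    refine hext (ShortComplex.mk (Fsub X (n + 1) (n + 1)).arrow (tr X n.le_succ)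
      (((fsub_factors_iff _).1 (Subobject.factors_self _) n rfl).1 _)) ?_ ?_ ih
    · rw [ShortComplex.exact_iff_exact_up_to_refinements]
      intro T x hx
      have hxF : (Fsub X (n + 1) (n + 1)).Factors x := by
        rw [fsub_factors_iff]
        intro j hj
        obtain rfl : j = n := by omega
        exact ⟨fun _ => hx, fun h => absurd h (by omega)⟩
      exact ⟨T, 𝟙 T, inferInstance, (Fsub X (n + 1) (n + 1)).factorThru x hxF,
        by rw [Category.id_comp]; exact (Subobject.factorThru_arrow _ _ _).symm⟩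
    · exact hm (Subobject.ofLE _ _ (hle (n + 1))) inferInstance
        (genFam_prop (N := fun q => X.obj (op q)) hz he hs
          (hm (⊤ : Subobject (X.obj (op 0))).arrow inferInstance h0) k θ (n + 1))

end Closure

lemma isNoetherianObject_of_isAdic' [IsNoetherianRing A] (hX : IsAdic J X)
    (h0 : IsNoetherianObject (X.obj (op 0))) (n : ℕ) : IsNoetherianObject (X.obj (op n)) :=
  prop_of_isAdic (P := fun Y => IsNoetherianObject Y) hX (fun _ h => isNoetherianObject_of_isZero h)
    (fun f _ h => haveI := h; isNoetherianObject_of_epi f)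
    (fun f _ h => haveI := h; isNoetherianObject_of_mono f)
    (fun _ hS h₁ h₃ => haveI := h₁; haveI := h₃; isNoetherianObject_of_extension hS) h0 n

lemma isArtinianObject_of_isAdic' [IsNoetherianRing A] (hX : IsAdic J X)
    (h0 : IsArtinianObject (X.obj (op 0))) (n : ℕ) : IsArtinianObject (X.obj (op n)) :=
  prop_of_isAdic (P := fun Y => IsArtinianObject Y) hX (fun _ h => isArtinianObject_of_isZero h)
    (fun f _ h => haveI := h; isArtinianObject_of_epi f)
    (fun f _ h => haveI := h; isArtinianObject_of_mono f)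
    (fun _ hS h₁ h₃ => haveI := h₁; haveI := h₃; isArtinianObject_of_extension hS) h0 n

end Groth.Agent.AR46
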