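import Groth.Agent.AR46.Quot
import Groth.Agent.AR46.Noeth

/-!
Kernels and cokernels of morphisms of systems adic up to translation.
-/

universe w v u

open CategoryTheory CategoryTheory.Limits Opposite ARSys

namespace Groth.Agent.AR46

variable {C : Type u} [Category.{v} C] [Abelian C] {A : Type w} [CommRing A] [Linear A C]
  {J : Ideal A} {X Y B B' : PS C}

lemma termKilled_of_mono (i : X ⟶ Y) [Mono i] (h : TermKilled J Y) : TermKilled J X := fun n =>
  haveI : Mono (i.app (op n)) := inferInstanceAs (Mono (((evaluation ℕᵒᵖ C).obj (op n)).map i))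
  killedBy_of_mono (i.app (op n)) (h n)

lemma termKilled_of_epi (p : X ⟶ Y) [Epi p] (h : TermKilled J X) : TermKilled J Y := fun n =>
  haveI : Epi (p.app (op n)) := inferInstanceAs (Epi (((evaluation ℕᵒᵖ C).obj (op n)).map p))
  killedBy_of_epi (p.app (op n)) (h n)

lemma isARAdic_of_arIso {u : Y ⟶ X} (hu : IsARIso u) (hY : IsARAdic J Y) (kX : TermKilled J X) :
    IsARAdic J X := by
  obtain ⟨-, Z, v, hZ, hv⟩ := hY
  exact ⟨kX, Z, v ≫ u, hZ, isARIso_comp hv hu⟩

lemma isARAdic_of_iso (e : Y ≅ X) (hY : IsARAdic J Y) : IsARAdic J X :=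
  isARAdic_of_arIso (isARIso_of_isIso e.hom) hY (termKilled_of_epi e.hom hY.1)

lemma isAdapted_of_mono (i : X ⟶ Y) [Mono i] (hY : IsAdapted J Y) : IsAdapted J X := by
  intro n p hp a ha
  have : Mono (i.app (op n)) := inferInstanceAs (Mono (((evaluation ℕᵒᵖ C).obj (op n)).map i))
  have h : (Fsub Y (n + 1 - p) n).Factors ((Fsub X (n + 1 - p) n).arrow ≫ i.app (op n)) := by
    rw [fsub_factors_iff]
    intro k hk
    refine ⟨fun h => ?_, fun h => absurd h (by omega)⟩
    rw [Category.assoc, ← tr_naturality,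
      reassoc_of% ((fsub_factors_iff _).1 (Subobject.factors_self _) k hk).1 h, zero_comp]
  rw [smul_eq_comp, ← cancel_mono (i.app (op n)), zero_comp, Linear.smul_comp]
  exact smul_eq_zero_of_adapted hY (by omega) ha h

lemma grsFiniteType_of_mono [IsNoetherianRing A] (i : X ⟶ B) [Mono i] (hX : IsStrict X)
    (hB : IsAdicNoeth J B) : GrsFiniteType J X := by
  intro M hM hmono hlub
  have hi : ∀ n, Mono (i.app (op n)) := fun n =>
    inferInstanceAs (Mono (((evaluation ℕᵒᵖ C).obj (op n)).map i))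
  have hA := isAdapted_of_isAdic hB.1
  let M' : ℕ → ∀ q, Subobject (B.obj (op q)) := fun j q => imageSubobject ((M j q).arrow ≫ i.app (op q))
  have hM' : ∀ j, IsGrSub J B (M' j) := fun j => isGrSub_iff.2 ⟨fun q => image_le_iff.2 (by
      rw [fsub_factors_iff]
      intro k hk
      refine ⟨fun h => ?_, fun h => absurd h (by omega)⟩
      have h0 := ((fsub_factors_iff _).1 (Subobject.factors_of_le _ ((hM j).1 q)
        (Subobject.factors_self (M j q))) k hk).1 h
      rw [Category.assoc, ← tr_naturality, reassoc_of% h0, zero_comp]), fun p q a ha T x hx => by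
      obtain ⟨T₁, e₁, he₁, m, hm⟩ := (image_factors_iff _).1 hx
      have := hX q (p + q) (Nat.le_add_left q p)
      obtain ⟨T₂, e₂, he₂, y, hy⟩ :=
        surjective_up_to_refinements_of_epi (tr X (Nat.le_add_left q p)) (m ≫ (M j q).arrow)
      have h0 : a • (e₂ ≫ e₁ ≫ x - y ≫ i.app (op (p + q))) = 0 := by
        refine smul_eq_zero_of_adapted hA (q := q + 1) (by omega) ha ?_
        rw [fsub_factors_iff]
        intro k hk
        obtain rfl : k = q := by omega
        refine ⟨fun h => ?_, fun h => absurd h (by omega)⟩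
        rw [Preadditive.sub_comp, Category.assoc, Category.assoc, Category.assoc, hm,
          ← tr_naturality, ← reassoc_of% hy, sub_self]
      have hy' : (M j (p + q)).Factors (a • y) := (isGrSub_iff.1 (hM j)).2 p q a ha y
        (hy ▸ Subobject.factors_of_factors_right e₂ (Subobject.factors_comp_arrow m))
      rw [smul_sub, sub_eq_zero] at h0
      refine factors_of_epi_comp e₁ (factors_of_epi_comp e₂ ?_)
      rw [Linear.comp_smul, Linear.comp_smul, h0, ← Linear.smul_comp,
        ← Subobject.factorThru_arrow _ _ hy', Category.assoc]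
      exact Subobject.factors_of_factors_right _ (image_le_iff.1 le_rfl)⟩
  obtain ⟨K, hK⟩ := grSub_chain_stationary hB.1 (hB.2 0) M' hM' fun a b h q =>
    image_arrow_comp_mono _ (hmono h q)
  refine ⟨K, fun q => le_antisymm ((hM K).1 q) ((hlub q).2 ?_)⟩
  rintro _ ⟨j, rfl⟩
  refine (hmono (le_max_left j K) q).trans ?_
  refine Subobject.le_of_factors ?_
  have h1 : (M' K q).Factors ((M (max j K) q).arrow ≫ i.app (op q)) := by
    rw [← congrFun (hK _ (le_max_right j K)) q]
    exact image_le_iff.1 le_rfl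
  obtain ⟨T, e, he, y, hy⟩ := (image_factors_iff _).1 h1
  refine factors_of_epi_comp e ?_
  have := hi q
  rw [show e ≫ (M (max j K) q).arrow = y ≫ (M K q).arrow by
    rw [← cancel_mono (i.app (op q)), Category.assoc, Category.assoc, hy]]
  exact Subobject.factors_comp_arrow _

lemma isARAdic_of_strict_mono [IsNoetherianRing A] (i : X ⟶ B) [Mono i] (hX : IsStrict X)
    (hB : IsAdicNoeth J B) : IsARAdic J X := by
  have hA := isAdapted_of_mono (J := J) i (isAdapted_of_isAdic hB.1)
  exact (isARAdic_iff_kerLEI (hasQuots_of_noetherian J) hX (termKilled_of_adapted hA)).2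
    (kerLEI_of_grsFiniteType (hasQuots_of_noetherian J) hX hA (grsFiniteType_of_mono i hX hB))

lemma kernel_cokernel_of_adicNoeth [IsNoetherianRing A] (g : B ⟶ B') (hB : IsAdicNoeth J B)
    (hB' : IsAdicNoeth J B') : IsARAdic J (kernel g) ∧ IsAdic J (cokernel g) := by
  let I : ∀ n, Subobject (B'.obj (op n)) := fun n => imageSubobject (g.app (op n))
  have hI : IsStableFam B' I := fun a b h => by
    obtain ⟨T', e, he, x, hx⟩ := (image_factors_iff _).1 (I b).factors_self
    refine (image_factors_iff _).2 ⟨T', e, he, x ≫ tr B h, ?_⟩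
    rw [reassoc_of% hx, Category.assoc, tr_naturality]
  haveI := subι_mono B' I hI
  let g' : B ⟶ subSys B' I hI :=
    { app := fun n => factorThruImageSubobject (g.app n)
      naturality := fun n m f => by
        refine (cancel_mono (I m.unop).arrow).1 ?_
        refine (Category.assoc _ _ _).trans ?_
        refine Eq.trans ?_ (Category.assoc _ _ _).symm
        refine Eq.trans ?_ (congrArg (factorThruImageSubobject (g.app n) ≫ ·)
          (subι_tr B' I hI f.unop.le).symm)
        refine (congrArg (B.map f ≫ ·) (imageSubobject_arrow_comp _)).trans ?_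
        exact (g.naturality f).trans ((congrArg (· ≫ B'.map f) (imageSubobject_arrow_comp _).symm).trans
          (Category.assoc _ _ _)) }
  haveI : ∀ n, Epi (g'.app n) := fun n => inferInstanceAs (Epi (factorThruImageSubobject (g.app n)))
  haveI : Epi g' := NatTrans.epi_of_epi_app g'
  have hfac : g' ≫ subι B' I hI = g := by
    ext ⟨n⟩
    exact imageSubobject_arrow_comp _
  have hIs : IsStrict (subSys B' I hI) := isStrict_of_epi g' (isStrict_of_isAdic hB.1)
  have hIad : IsARAdic J (subSys B' I hI) := isARAdic_of_strict_mono (subι B' I hI) hIs hB'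
  have hw : kernel.ι g ≫ g' = 0 := by
    rw [← cancel_mono (subι B' I hI), Category.assoc, hfac, kernel.condition, zero_comp]
  let S₁ : ShortComplex (PS C) := ShortComplex.mk (kernel.ι g) g' hw
  let S₂ : ShortComplex (PS C) := ShortComplex.mk (subι B' I hI) (cokernel.π g) (by
    rw [← cancel_epi g', reassoc_of% hfac, cokernel.condition, comp_zero])
  have hS₁ : S₁.ShortExact :=
    { exact := by
        let φ : S₁ ⟶ ShortComplex.mk (kernel.ι g) g (kernel.condition g) :=
          { τ₁ := 𝟙 _, τ₂ := 𝟙 _, τ₃ := subι B' I hI, comm₂₃ := by simpa [S₁] using hfac.symm }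
        have : Epi φ.τ₁ := inferInstanceAs (Epi (𝟙 _))
        have : IsIso φ.τ₂ := inferInstanceAs (IsIso (𝟙 _))
        have : Mono φ.τ₃ := inferInstanceAs (Mono (subι B' I hI))
        exact (ShortComplex.exact_iff_of_epi_of_isIso_of_mono φ).2 (ShortComplex.exact_kernel g)
      mono_f := inferInstanceAs (Mono (kernel.ι g))
      epi_g := inferInstanceAs (Epi g') }
  have hS₂ : S₂.ShortExact :=
    { exact := by
        let φ : ShortComplex.mk g (cokernel.π g) (cokernel.condition g) ⟶ S₂ :=
          { τ₁ := g', τ₂ := 𝟙 _, τ₃ := 𝟙 _, comm₁₂ := by simpa [S₂] using hfac }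
        have : Epi φ.τ₁ := inferInstanceAs (Epi g')
        have : IsIso φ.τ₂ := inferInstanceAs (IsIso (𝟙 _))
        have : Mono φ.τ₃ := inferInstanceAs (Mono (𝟙 _))
        exact (ShortComplex.exact_iff_of_epi_of_isIso_of_mono φ).1 (ShortComplex.exact_cokernel g)
      mono_f := inferInstanceAs (Mono (subι B' I hI))
      epi_g := inferInstanceAs (Epi (cokernel.π g)) }
  refine ⟨?_, isAdic_quotient hS₂ hIs hB'.1⟩
  obtain ⟨r, hs, hv⟩ := exists_strict_of_isMLAR (isMLAR_left hS₁ (hasQuots_of_noetherian J) hB.1.1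
    ⟨0, fun s _ n => by
      have := isStrict_of_isAdic hB.1 n (n + 0) (Nat.le_add_right n 0)
      refine le_antisymm (image_sm_antitone (Nat.zero_le s) n) (image_le_iff.2 ?_)
      have := isStrict_of_isAdic hB.1 n (n + s) (Nat.le_add_right n s)
      obtain ⟨T, e, he, x, hx⟩ := surjective_up_to_refinements_of_epi (sm B s n) (sm B 0 n)
      exact (image_factors_iff _).2 ⟨T, e, he, x, hx⟩⟩ hIad)
  haveI := subι_mono (kernel g) _ (imFam_stable r)
  have h := isARAdic_of_strict_mono (subι (kernel g) _ (imFam_stable r) ≫ kernel.ι g) hs hB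
  exact isARAdic_of_arIso hv h (termKilled_of_mono (kernel.ι g) hB.1.1)

lemma epi_shiftInverse (hB : IsStrict B) {u : B ⟶ X} {s : ℕ}
    {w : ∀ n, X.obj (op (n + s)) ⟶ B.obj (op n)} (hw : IsShiftInverse u s w) (n : ℕ) :
    Epi (w n) :=
  have := hB n (n + s) (Nat.le_add_right n s)
  epi_of_epi_fac (hw.comp_inv n)

lemma exists_adicNoeth_replacement (h : IsARAdicNoeth J X) :
    ∃ (B : PS C) (u : B ⟶ X), IsAdicNoeth J B ∧ IsARIso u := by
  obtain ⟨⟨-, B, u, hB, hu⟩, hN⟩ := h
  obtain ⟨s, w, hw⟩ := (isARIso_iff_exists_shiftInverse u).1 hu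
  refine ⟨B, u, ⟨hB, fun n => ?_⟩, hu⟩
  have := epi_shiftInverse (isStrict_of_isAdic hB) hw n
  have := hN (n + s)
  exact isNoetherianObject_of_epi (w n)

lemma exists_adicArt_replacement (h : IsARAdicArt J X) :
    ∃ (B : PS C) (u : B ⟶ X), IsAdicArt J B ∧ IsARIso u := by
  obtain ⟨⟨-, B, u, hB, hu⟩, hN⟩ := h
  obtain ⟨s, w, hw⟩ := (isARIso_iff_exists_shiftInverse u).1 hu
  refine ⟨B, u, ⟨hB, fun n => ?_⟩, hu⟩
  have := epi_shiftInverse (isStrict_of_isAdic hB) hw n
  have := hN (n + s)
  exact isArtinianObject_of_epi (w n)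

lemma exists_lift_arIso (hB : IsAdic J B) (hB' : TermKilled J B') (hY : TermKilled J Y)
    (f : B ⟶ Y) {b : B' ⟶ Y} (hb : IsARIso b) : ∃ g : B ⟶ B', g ≫ b = f := by
  obtain ⟨s, w, hw⟩ := (isARIso_iff_exists_shiftInverse b).1 hb
  obtain ⟨g, hg, -⟩ := existsUnique_desc_shift hB hB' s (fun n => f.app (op (n + s)) ≫ w n)
    (fun {a c} h => by rw [tr_naturality_assoc, hw.natural h, Category.assoc])
  refine ⟨g, hom_ext_of_sm hB (r := s) fun n => ?_⟩
  rw [NatTrans.comp_app, ← Category.assoc, ← hg n, Category.assoc, hw.inv_comp]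
  exact (tr_naturality f _).symm

section Square

variable {g : B ⟶ B'} {a : B ⟶ X} {b : B' ⟶ Y} {u : X ⟶ Y}

lemma isARIso_kernel_map (w : g ≫ b = a ≫ u) (ha : IsARIso a) (hb : IsARIso b) :
    IsARIso (kernel.map g u a b w) := by
  obtain ⟨r, hr⟩ := (isARIso_iff a).1 ha
  obtain ⟨r', hr'⟩ := (isARIso_iff b).1 hb
  have hι : ∀ m, (kernel.map g u a b w).app (op m) ≫ (kernel.ι u).app (op m) =
      (kernel.ι g).app (op m) ≫ a.app (op m) := fun m => by
    rw [← NatTrans.comp_app, ← NatTrans.comp_app, kernel.lift_ι]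
  refine (isARIso_iff _).2 ⟨r + r', fun n T x hx => ?_, fun n => ?_⟩
  · have := kernel_ι_app_mono g (op n)
    rw [← cancel_mono ((kernel.ι g).app (op n)), zero_comp, Category.assoc, sm, tr_naturality,
      ← Category.assoc]
    refine (hr.mono (Nat.le_add_right r r')).1 n _ ?_
    rw [Category.assoc, ← hι, reassoc_of% hx, zero_comp]
  · obtain ⟨T₁, e₁, he₁, β, hβ⟩ := (image_factors_iff _).1 (Subobject.factors_of_factors_right
      ((kernel.ι u).app (op (n + (r + r'))) ≫ tr X (show n + r' + r ≤ n + (r + r') by omega))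
      (hr.2 (n + r')))
    have h0 : (β ≫ g.app (op (n + r'))) ≫ b.app (op (n + r')) = 0 := by
      rw [Category.assoc, ← NatTrans.comp_app, w, NatTrans.comp_app, ← reassoc_of% hβ]
      have hz : (kernel.ι u).app (op (n + (r + r'))) ≫ u.app (op (n + (r + r'))) = 0 := by
        rw [← NatTrans.comp_app, kernel.condition]; rfl
      simp [sm, tr_naturality, tr_naturality_assoc, reassoc_of% hz, tr_tr_assoc]
    have h1 := hr'.1 n _ h0
    rw [sm, Category.assoc, ← tr_naturality, ← Category.assoc] at h1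
    obtain ⟨y, hy⟩ := kernel_ι_app_lift g _ _ h1
    refine (image_factors_iff _).2 ⟨T₁, e₁, he₁, y, ?_⟩
    have := kernel_ι_app_mono u (op n)
    rw [← cancel_mono ((kernel.ι u).app (op n)), Category.assoc, Category.assoc, hι,
      reassoc_of% hy, sm]
    have h2 := hβ =≫ tr X (Nat.le_add_right n r')
    simp only [Category.assoc, sm, tr_tr] at h2
    rw [tr_naturality (kernel.ι u), h2, ← tr_naturality a]

lemma isARIso_cokernel_map (w : g ≫ b = a ≫ u) (ha : IsARIso a) (hb : IsARIso b) :
    IsARIso (cokernel.map g u a b w) := by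
  obtain ⟨r, hr⟩ := (isARIso_iff a).1 ha
  obtain ⟨r', hr'⟩ := (isARIso_iff b).1 hb
  have hπ : ∀ m, (cokernel.π g).app (op m) ≫ (cokernel.map g u a b w).app (op m) =
      b.app (op m) ≫ (cokernel.π u).app (op m) := fun m => by
    rw [← NatTrans.comp_app, ← NatTrans.comp_app, cokernel.π_desc]
  refine (isARIso_iff _).2 ⟨r + r', fun n T z hz => ?_, fun n => ?_⟩
  · have := cokernel_π_app_epi g (op (n + (r + r')))
    obtain ⟨T₁, e₁, he₁, y, hy⟩ :=
      surjective_up_to_refinements_of_epi ((cokernel.π g).app (op (n + (r + r')))) z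
    obtain ⟨T₂, e₂, he₂, x, hx⟩ := (image_factors_iff _).1
      ((comp_cokernel_π_app_iff u _ (y ≫ b.app (op (n + (r + r'))))).1 (by
        rw [Category.assoc, ← hπ, ← reassoc_of% hy, hz, comp_zero]))
    obtain ⟨T₃, e₃, he₃, β, hβ⟩ := (image_factors_iff _).1 (Subobject.factors_of_factors_right
      (x ≫ tr X (show n + r' + r ≤ n + (r + r') by omega)) (hr.2 (n + r')))
    have h1 := hr'.1 n (e₃ ≫ e₂ ≫ y ≫ tr B' (show n + r' ≤ n + (r + r') by omega) -
      β ≫ g.app (op (n + r'))) (by
        rw [Preadditive.sub_comp, sub_eq_zero, Category.assoc β, ← NatTrans.comp_app, w,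
          NatTrans.comp_app, ← reassoc_of% hβ]
        simp only [Category.assoc, tr_naturality, sm]
        rw [reassoc_of% hx]
        simp [sm, tr_naturality, tr_naturality_assoc, tr_tr, tr_tr_assoc])
    rw [Preadditive.sub_comp, sub_eq_zero] at h1
    refine (cancel_epi e₁).1 ((cancel_epi e₂).1 ((cancel_epi e₃).1 ?_))
    simp only [comp_zero]
    rw [reassoc_of% hy, sm, ← tr_naturality]
    have h2 := h1 =≫ (cokernel.π g).app (op n)
    simp only [Category.assoc, sm, tr_tr_assoc] at h2
    rw [h2, ← tr_naturality_assoc g]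
    have hz' : g.app (op n) ≫ (cokernel.π g).app (op n) = 0 := by
      rw [← NatTrans.comp_app, cokernel.condition]; rfl
    simp [hz']
  · have := cokernel_π_app_epi u (op (n + (r + r')))
    refine factors_of_epi_comp ((cokernel.π u).app (op (n + (r + r')))) ?_
    rw [sm, ← tr_naturality]
    obtain ⟨T₁, e₁, he₁, β, hβ⟩ :=
      (image_factors_iff _).1 ((hr'.mono (Nat.le_add_left r' r)).2 n)
    refine (image_factors_iff _).2 ⟨T₁, e₁, he₁, β ≫ (cokernel.π g).app (op n), ?_⟩
    rw [Category.assoc, hπ, ← reassoc_of% hβ]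

end Square

theorem kernel_cokernel_of_arAdicNoeth [IsNoetherianRing A] (u : X ⟶ Y) (hX : IsARAdicNoeth J X)
    (hY : IsARAdicNoeth J Y) :
    IsARAdicNoeth J (kernel u) ∧ IsARAdicNoeth J (cokernel u) := by
  obtain ⟨B, a, hB, ha⟩ := exists_adicNoeth_replacement hX
  obtain ⟨B', b, hB', hb⟩ := exists_adicNoeth_replacement hY
  obtain ⟨g, hg⟩ := exists_lift_arIso hB.1 hB'.1.1 hY.1.1 (a ≫ u) hb
  obtain ⟨hk, hc⟩ := kernel_cokernel_of_adicNoeth g hB hB'
  refine ⟨⟨isARAdic_of_arIso (isARIso_kernel_map hg ha hb) hk (termKilled_of_mono (kernel.ι u) hX.1.1),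
    fun n => ?_⟩, ⟨⟨termKilled_of_epi (cokernel.π u) hY.1.1, _, _, hc, isARIso_cokernel_map hg ha hb⟩,
    fun n => ?_⟩⟩
  · have := kernel_ι_app_mono u (op n)
    have := hX.2 n
    exact isNoetherianObject_of_mono ((kernel.ι u).app (op n))
  · have := cokernel_π_app_epi u (op n)
    have := hY.2 n
    exact isNoetherianObject_of_epi ((cokernel.π u).app (op n))

end Groth.Agent.AR46
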