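import Groth.Agent.AR46.Adic

/-!
Quotients and subsystems of systems adic up to translation.
-/

universe w v u

open CategoryTheory CategoryTheory.Limits Opposite ARSys

namespace Groth.Agent.AR46

variable {C : Type u} [Category.{v} C] [Abelian C] {A : Type w} [CommRing A] [Linear A C]
  {J : Ideal A} {S : ShortComplex (PS C)}

lemma isMLAR_left (hS : S.ShortExact) (hJ : HasQuots C J) (k₂ : TermKilled J S.X₂)
    (h₂ : IsMLAR S.X₂) (h₃ : IsARAdic J S.X₃) : IsMLAR S.X₁ := by
  obtain ⟨r, hr⟩ := isMLAR_iff.1 h₂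
  obtain ⟨-, B, v, hB, hv⟩ := h₃
  obtain ⟨p, w, hw⟩ := (isARIso_iff_exists_shiftInverse v).1 hv
  refine isMLAR_iff.2 ⟨p + r, fun s hs n => ?_⟩
  obtain ⟨T₁, e₁, he₁, y, hy⟩ := (image_factors_iff _).1 (Subobject.factors_of_factors_right
    (S.f.app (op (n + (p + r))) ≫ tr S.X₂ (show n + p + r ≤ n + (p + r) by omega))
    (hr s (by omega) (n + p)))
  let z := (y ≫ tr S.X₂ (show n + s + p ≤ n + p + s by omega)) ≫ S.g.app (op (n + s + p))
  have hz : z ≫ tr S.X₃ (show n + p ≤ n + s + p by omega) = 0 := by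
    simp only [z, Category.assoc]
    rw [← tr_naturality, tr_tr_assoc]
    have h' := hy =≫ S.g.app (op (n + p))
    simp only [Category.assoc, sm] at h'
    rw [← h']
    simp [tr_tr_assoc, tr_naturality, app_zero_assoc]
  have hβ : (z ≫ w (n + s)) ≫ tr B (Nat.le_add_right n s) = 0 := by
    rw [Category.assoc, ← hw.natural, reassoc_of% hz, zero_comp]
  have hg := app_epi hS (n + s)
  obtain ⟨T₂, e₂, he₂, y', hy', hy''⟩ := exists_lei_lift (hJ _ _) (S.g.app (op (n + s)))
    (lei_comp_right (IsAdicKer.lei hB _ hβ) (v.app (op (n + s))))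
  obtain ⟨x, hx⟩ := app_exists_lift hS (n + s)
    (e₂ ≫ y ≫ tr S.X₂ (show n + s ≤ n + p + s by omega) - y') (by
      rw [Preadditive.sub_comp, ← hy'', sub_eq_zero]
      simp only [z, Category.assoc, hw.inv_comp, sm, ← tr_naturality, tr_tr_assoc])
  refine (image_factors_iff _).2 ⟨T₂, e₂ ≫ e₁, inferInstance, x, ?_⟩
  have := app_mono hS n
  rw [← cancel_mono (S.f.app (op n))]
  simp only [Category.assoc, sm, tr_naturality]
  rw [reassoc_of% hx, Preadditive.sub_comp, tr_eq_zero_of_lei k₂ _ hy', sub_zero]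
  simp only [Category.assoc, tr_tr]
  have h' := hy =≫ tr S.X₂ (Nat.le_add_right n p)
  simp only [Category.assoc, sm, tr_tr] at h'
  rw [h']

lemma isARAdic_right (hS : S.ShortExact) (k₃ : TermKilled J S.X₃) (h₁ : IsMLAR S.X₁)
    (h₂ : IsARAdic J S.X₂) : IsARAdic J S.X₃ := by
  obtain ⟨-, B, u, hB, hu⟩ := h₂
  obtain ⟨p, w, hw⟩ := (isARIso_iff_exists_shiftInverse u).1 hu
  obtain ⟨r, hstrict, -⟩ := exists_strict_of_isMLAR h₁
  let F : ∀ n, (imFam S.X₁ r (n + p) : C) ⟶ B.obj (op n) := fun n =>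
    (imFam S.X₁ r (n + p)).arrow ≫ S.f.app (op (n + p)) ≫ w n
  let W : ∀ n, Subobject (B.obj (op n)) := fun n => imageSubobject (F n)
  have hF : ∀ {a b : ℕ} (h : a ≤ b),
      tr (subSys S.X₁ _ (imFam_stable r)) (Nat.add_le_add_right h p) ≫ F a = F b ≫ tr B h :=
    fun {a b} h => by
      simp only [F, Category.assoc, ← hw.natural h]
      rw [← tr_naturality_assoc S.f, ← Category.assoc, subι_tr, Category.assoc]
  have hWst : IsStableFam B W := fun a b h => by
    obtain ⟨T', e, he, x, hx⟩ := (image_factors_iff _).1 (W b).factors_self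
    refine (image_factors_iff _).2
      ⟨T', e, he, x ≫ tr (subSys S.X₁ _ (imFam_stable r)) (Nat.add_le_add_right h p), ?_⟩
    rw [reassoc_of% hx, Category.assoc x, hF h]
  have hW : IsStrict (subSys B W hWst) := fun a b h => subSys_epi_tr B W hWst h (by
    have := hstrict (a + p) (b + p) (Nat.add_le_add_right h p)
    refine image_le_iff.2 (factors_of_epi_comp
      (tr (subSys S.X₁ _ (imFam_stable r)) (Nat.add_le_add_right h p)) ?_)
    rw [hF h, ← imageSubobject_arrow_comp (F b), Category.assoc]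
    exact Subobject.factors_of_factors_right _ (image_le_iff.1 le_rfl))
  haveI := subι_mono B W hWst
  let Q := cokernel (subι B W hWst)
  let S' : ShortComplex (PS C) :=
    ShortComplex.mk (subι B W hWst) (cokernel.π _) (cokernel.condition _)
  have hS' : S'.ShortExact := { exact := ShortComplex.exact_cokernel _ }
  have hQ : IsAdic J Q := isAdic_quotient hS' hW hB
  let c : Q ⟶ S.X₃ := cokernel.desc _ (u ≫ S.g) (by
    ext ⟨n⟩
    change (W n).arrow ≫ u.app (op n) ≫ S.g.app (op n) = 0
    rw [← cancel_epi (factorThruImageSubobject (F n)), imageSubobject_arrow_comp_assoc, comp_zero]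
    simp only [F, Category.assoc]
    rw [reassoc_of% hw.inv_comp n]
    simp [sm, tr_naturality, app_zero_assoc])
  refine ⟨k₃, Q, c, hQ, (isARIso_iff c).2 ⟨r + p, fun n T b hb => ?_, fun n => ?_⟩⟩
  · have := cokernel_π_app_epi (subι B W hWst) (op (n + (r + p)))
    obtain ⟨T₁, e₁, he₁, a, ha⟩ :=
      surjective_up_to_refinements_of_epi ((cokernel.π (subι B W hWst)).app (op (n + (r + p)))) b
    have h0 : (a ≫ u.app (op (n + (r + p)))) ≫ S.g.app (op (n + (r + p))) = 0 := by
      have h1 : (cokernel.π (subι B W hWst)).app (op (n + (r + p))) ≫ c.app (op (n + (r + p))) =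
          u.app (op (n + (r + p))) ≫ S.g.app (op (n + (r + p))) := by
        rw [← NatTrans.comp_app, cokernel.π_desc]; rfl
      rw [Category.assoc, ← h1, ← reassoc_of% ha, hb, comp_zero]
    obtain ⟨x, hx⟩ := app_exists_lift hS _ _ h0
    obtain ⟨T₂, e₂, he₂, x', hx'⟩ := surjective_up_to_refinements_of_epi
      (factorThruImageSubobject (sm S.X₁ r (n + p)))
      (x ≫ tr S.X₁ (show n + p + r ≤ n + (r + p) by omega) ≫
        factorThruImageSubobject (sm S.X₁ r (n + p)))
    refine (cancel_epi e₁).1 ?_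
    rw [comp_zero, reassoc_of% ha, sm, ← tr_naturality, ← Category.assoc]
    refine (comp_cokernel_π_app_iff (subι B W hWst) (op n) _).2 ?_
    have h2 := hx =≫ (tr S.X₂ (show n + p ≤ n + (r + p) by omega) ≫ w n)
    simp only [Category.assoc, ← tr_naturality_assoc] at h2
    rw [hw.comp_inv, sm, tr_tr] at h2
    refine (image_factors_iff _).2 ⟨T₁, 𝟙 _, inferInstance,
      x ≫ tr S.X₁ (show n + p + r ≤ n + (r + p) by omega) ≫
        factorThruImageSubobject (sm S.X₁ r (n + p)) ≫ factorThruImageSubobject (F n), ?_⟩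
    rw [subι_app]
    simp only [Category.assoc, Category.id_comp]
    rw [imageSubobject_arrow_comp]
    simp only [F]
    rw [imageSubobject_arrow_comp_assoc, sm, tr_tr_assoc]
    exact h2.symm
  · have hg := app_epi hS (n + (r + p))
    refine factors_of_epi_comp (S.g.app (op (n + (r + p)))) ?_
    rw [sm, ← tr_naturality]
    refine (image_factors_iff _).2 ⟨_, 𝟙 _, inferInstance,
      tr S.X₂ (show n + p ≤ n + (r + p) by omega) ≫ w n ≫
        (cokernel.π (subι B W hWst)).app (op n), ?_⟩
    have h1 : (cokernel.π (subι B W hWst)).app (op n) ≫ c.app (op n) =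
        u.app (op n) ≫ S.g.app (op n) := by
      rw [← NatTrans.comp_app, cokernel.π_desc]; rfl
    simp only [Category.id_comp, Category.assoc, h1]
    rw [reassoc_of% hw.inv_comp n, sm, tr_tr_assoc]

end Groth.Agent.AR46
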