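import Groth.Prelude.Def_ARSys
import Groth.Agent.AR46.Elem
import Mathlib.CategoryTheory.Limits.FunctorCategory.Finite
import Mathlib.CategoryTheory.Abelian.Exact
import Mathlib.CategoryTheory.Limits.Preserves.Shapes.Kernels

/-!
Translations, null systems and isomorphisms up to translation of projective systems.
-/

universe v u

open CategoryTheory CategoryTheory.Limits Opposite ARSys

namespace Groth.Agent.AR46

variable {C : Type u} [Category.{v} C]

@[reassoc]
lemma tr_tr (X : PS C) {a b c : ℕ} (h : a ≤ b) (h' : b ≤ c) :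
    tr X h' ≫ tr X h = tr X (h.trans h') := (X.map_comp _ _).symm

lemma tr_self (X : PS C) {a : ℕ} (h : a ≤ a) : tr X h = 𝟙 _ := X.map_id _

@[reassoc]
lemma tr_naturality {X Y : PS C} (f : X ⟶ Y) {a b : ℕ} (h : a ≤ b) :
    tr X h ≫ f.app (op a) = f.app (op b) ≫ tr Y h := f.naturality _

/-- The transition map `X_{n+r} ⟶ X_n`. -/
abbrev sm (X : PS C) (r n : ℕ) : X.obj (op (n + r)) ⟶ X.obj (op n) := tr X (Nat.le_add_right n r)

/-- A family of morphisms commuting with successive transition maps. -/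
lemma naturality_of_tr {X Y : PS C} (f : ∀ n, X.obj (op n) ⟶ Y.obj (op n))
    (hf : ∀ {a b : ℕ} (h : a ≤ b), tr X h ≫ f a = f b ≫ tr Y h) {n m : ℕᵒᵖ} (g : n ⟶ m) :
    X.map g ≫ f m.unop = f n.unop ≫ Y.map g := hf g.unop.le

variable [Abelian C]

lemma isARNull_iff {X : PS C} : IsARNull X ↔ ∃ r, ∀ n, sm X r n = 0 := Iff.rfl

lemma sm_eq_zero_of_le {X : PS C} {r r' n : ℕ} (h : r ≤ r') (h0 : sm X r n = 0) :
    sm X r' n = 0 := by
  have h' : n + r ≤ n + r' := by omega
  change tr X (Nat.le_add_right n r') = 0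
  rw [← tr_tr X (Nat.le_add_right n r) h']
  change _ ≫ sm X r n = 0
  rw [h0, comp_zero]

section Components

variable {X Y : PS C} (u : X ⟶ Y) (n : ℕᵒᵖ)

lemma kernel_ι_app_lift {T : C} (x : T ⟶ X.obj n) (hx : x ≫ u.app n = 0) :
    ∃ y : T ⟶ (kernel u).obj n, y ≫ (kernel.ι u).app n = x := by
  refine ⟨kernel.lift _ x hx ≫ (PreservesKernel.iso ((evaluation ℕᵒᵖ C).obj n) u).inv, ?_⟩
  have h := kernelComparison_comp_ι u ((evaluation ℕᵒᵖ C).obj n)
  rw [← PreservesKernel.iso_hom] at h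
  dsimp at h
  rw [Category.assoc, ← h, Iso.inv_hom_id_assoc]
  exact kernel.lift_ι _ _ _

lemma kernel_ι_app_mono : Mono ((kernel.ι u).app n) :=
  inferInstanceAs (Mono (((evaluation ℕᵒᵖ C).obj n).map (kernel.ι u)))

lemma cokernel_π_app_epi : Epi ((cokernel.π u).app n) :=
  inferInstanceAs (Epi (((evaluation ℕᵒᵖ C).obj n).map (cokernel.π u)))

lemma cokernel_π_app_exact :
    (ShortComplex.mk (u.app n) ((cokernel.π u).app n)
      (by rw [← NatTrans.comp_app, cokernel.condition]; rfl)).Exact :=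
  (ShortComplex.exact_cokernel u).map ((evaluation ℕᵒᵖ C).obj n)

lemma comp_cokernel_π_app_iff {T : C} (y : T ⟶ Y.obj n) :
    y ≫ (cokernel.π u).app n = 0 ↔ (imageSubobject (u.app n)).Factors y := by
  constructor
  · intro hy
    obtain ⟨T', e, he, x, hx⟩ := (cokernel_π_app_exact u n).exact_up_to_refinements y hy
    exact (image_factors_iff y).2 ⟨T', e, he, x, hx⟩
  · intro hy
    obtain ⟨T', e, he, x, hx⟩ := (image_factors_iff y).1 hy
    rw [← cancel_epi e, ← Category.assoc, hx, Category.assoc, ← NatTrans.comp_app,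
      cokernel.condition]
    simp

end Components

/-- Elementwise form of being an isomorphism up to translation, with explicit shift. -/
def ARIsoAt {X Y : PS C} (u : X ⟶ Y) (r : ℕ) : Prop :=
  (∀ (n : ℕ) ⦃T : C⦄ (x : T ⟶ X.obj (op (n + r))), x ≫ u.app (op (n + r)) = 0 →
    x ≫ sm X r n = 0) ∧
  ∀ n : ℕ, (imageSubobject (u.app (op n))).Factors (sm Y r n)

lemma ARIsoAt.mono {X Y : PS C} {u : X ⟶ Y} {r r' : ℕ} (h : ARIsoAt u r) (hr : r ≤ r') :
    ARIsoAt u r' := by
  refine ⟨fun n T x hx => ?_, fun n => ?_⟩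
  · have h' : n + r ≤ n + r' := by omega
    have := h.1 n (x ≫ tr X h') (by rw [Category.assoc, tr_naturality, reassoc_of% hx, zero_comp])
    rwa [Category.assoc, sm, tr_tr] at this
  · have h' : n + r ≤ n + r' := by omega
    have := Subobject.factors_of_factors_right (tr Y h') (h.2 n)
    rwa [sm, tr_tr] at this

lemma isARIso_iff {X Y : PS C} (u : X ⟶ Y) : IsARIso u ↔ ∃ r, ARIsoAt u r := by
  constructor
  · rintro ⟨hk, hc⟩
    obtain ⟨r, hr⟩ := isARNull_iff.1 hk
    obtain ⟨r', hr'⟩ := isARNull_iff.1 hc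
    refine ⟨max r r', fun n T x hx => ?_, fun n => ?_⟩
    · obtain ⟨y, rfl⟩ := kernel_ι_app_lift u _ x hx
      rw [Category.assoc, sm, ← tr_naturality]
      change y ≫ sm (kernel u) _ n ≫ _ = 0
      rw [sm_eq_zero_of_le (le_max_left r r') (hr n), zero_comp, comp_zero]
    · rw [← comp_cokernel_π_app_iff, sm, tr_naturality]
      change _ ≫ sm (cokernel u) _ n = 0
      rw [sm_eq_zero_of_le (le_max_right r r') (hr' n), comp_zero]
  · rintro ⟨r, h₁, h₂⟩
    refine ⟨isARNull_iff.2 ⟨r, fun n => ?_⟩, isARNull_iff.2 ⟨r, fun n => ?_⟩⟩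
    · have := kernel_ι_app_mono u (op n)
      rw [← cancel_mono ((kernel.ι u).app (op n)), zero_comp, sm, tr_naturality]
      exact h₁ n _ (by rw [← NatTrans.comp_app, kernel.condition]; rfl)
    · have := cokernel_π_app_epi u (op (n + r))
      rw [← cancel_epi ((cokernel.π u).app (op (n + r))), comp_zero, sm, ← tr_naturality]
      exact (comp_cokernel_π_app_iff u _ _).2 (h₂ n)

/-- An inverse up to translation of `u`. -/
structure IsShiftInverse {X Y : PS C} (u : X ⟶ Y) (s : ℕ)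
    (w : ∀ n, Y.obj (op (n + s)) ⟶ X.obj (op n)) : Prop where
  natural : ∀ {a b : ℕ} (h : a ≤ b),
    tr Y (Nat.add_le_add_right h s) ≫ w a = w b ≫ tr X h
  inv_comp : ∀ n, w n ≫ u.app (op n) = sm Y s n
  comp_inv : ∀ n, u.app (op (n + s)) ≫ w n = sm X s n

lemma ARIsoAt.exists_shiftInverse {X Y : PS C} {u : X ⟶ Y} {r : ℕ} (h : ARIsoAt u r) :
    ∃ w, IsShiftInverse u (r + r) w := by
  have hψ : ∀ n, ∃ ψ : (imageSubobject (u.app (op (n + r))) : C) ⟶ X.obj (op n),
      factorThruImageSubobject (u.app (op (n + r))) ≫ ψ = sm X r n := fun n =>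
    ⟨Abelian.epiDesc (factorThruImageSubobject (u.app (op (n + r)))) (sm X r n)
      (h.1 n _ (by
        have h0 := kernel.condition (factorThruImageSubobject (u.app (op (n + r))))
        have := h0 =≫ (imageSubobject (u.app (op (n + r)))).arrow
        rwa [Category.assoc, imageSubobject_arrow_comp, zero_comp] at this)),
      Abelian.comp_epiDesc _ _ _⟩
  choose ψ hψ using hψ
  have hl : ∀ n, (imageSubobject (u.app (op (n + r)))).Factors
      (tr Y (show n + r ≤ n + (r + r) by omega)) := fun n => by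
    have := h.2 (n + r)
    have e : n + (r + r) = n + r + r := by omega
    rw [show tr Y (show n + r ≤ n + (r + r) by omega) =
      tr Y e.ge ≫ sm Y r (n + r) from (tr_tr _ _ _).symm]
    exact Subobject.factors_of_factors_right _ this
  let w : ∀ n, Y.obj (op (n + (r + r))) ⟶ X.obj (op n) := fun n =>
    (imageSubobject (u.app (op (n + r)))).factorThru _ (hl n) ≫ ψ n
  have hw : ∀ (n : ℕ) {T T' : C} (e : T' ⟶ T) (y : T ⟶ Y.obj (op (n + (r + r))))
      (a : T' ⟶ X.obj (op (n + r))), e ≫ y ≫ tr Y (show n + r ≤ n + (r + r) by omega) =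
        a ≫ u.app (op (n + r)) → e ≫ y ≫ w n = a ≫ sm X r n := by
    intro n T T' e y a ha
    have : e ≫ y ≫ (imageSubobject (u.app (op (n + r)))).factorThru _ (hl n) =
        a ≫ factorThruImageSubobject (u.app (op (n + r))) := by
      rw [← cancel_mono (imageSubobject (u.app (op (n + r)))).arrow]
      simpa using ha
    rw [← hψ n]
    simp only [w, reassoc_of% this]
  have lift : ∀ (n : ℕ) {T : C} (y : T ⟶ Y.obj (op (n + (r + r)))), ∃ (T' : C) (e : T' ⟶ T)
      (_ : Epi e) (a : T' ⟶ X.obj (op (n + r))),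
      e ≫ y ≫ tr Y (show n + r ≤ n + (r + r) by omega) = a ≫ u.app (op (n + r)) := fun n T y =>
    (image_factors_iff _).1 (Subobject.factors_of_factors_right y (hl n))
  refine ⟨w, fun {a b} hab => ?_, fun n => ?_, fun n => ?_⟩
  · obtain ⟨T', e, he, x, hx⟩ := lift b (𝟙 _)
    rw [Category.id_comp] at hx
    have h₁ := hw b e (𝟙 _) x (by simpa using hx)
    rw [Category.id_comp] at h₁
    rw [← cancel_epi e, reassoc_of% h₁, hw a e (tr Y (by omega))
      (x ≫ tr X (show a + r ≤ b + r by omega))]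
    · simp [sm, tr_tr]
    · rw [Category.assoc, tr_naturality, ← reassoc_of% hx, tr_tr, tr_tr]
  · obtain ⟨T', e, he, x, hx⟩ := lift n (𝟙 _)
    rw [← cancel_epi e]
    have := hw n e (𝟙 _) x hx
    rw [Category.id_comp] at this hx
    rw [reassoc_of% this, sm, tr_naturality, ← reassoc_of% hx, tr_tr]
  · have := hw n (𝟙 _) (u.app (op (n + (r + r)))) (tr X (show n + r ≤ n + (r + r) by omega))
      (by simp [tr_naturality])
    simpa [sm, tr_tr] using this

lemma IsShiftInverse.arIsoAt {X Y : PS C} {u : X ⟶ Y} {s : ℕ}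
    {w : ∀ n, Y.obj (op (n + s)) ⟶ X.obj (op n)}
    (h : IsShiftInverse u s w) : ARIsoAt u s := by
  refine ⟨fun n T x hx => ?_, fun n => ?_⟩
  · rw [← h.comp_inv n, reassoc_of% hx, zero_comp]
  · rw [← h.inv_comp n]
    exact Subobject.factors_of_factors_right _ (image_le_iff.1 le_rfl)

lemma isARIso_iff_exists_shiftInverse {X Y : PS C} (u : X ⟶ Y) :
    IsARIso u ↔ ∃ s w, IsShiftInverse u s w := by
  rw [isARIso_iff]
  exact ⟨fun ⟨r, h⟩ => ⟨r + r, h.exists_shiftInverse⟩, fun ⟨s, w, h⟩ => ⟨s, h.arIsoAt⟩⟩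

lemma isARIso_of_isShiftInverse {X Y : PS C} {u : X ⟶ Y} {s : ℕ}
    {w : ∀ n, Y.obj (op (n + s)) ⟶ X.obj (op n)}
    (h : IsShiftInverse u s w) : IsARIso u := (isARIso_iff u).2 ⟨s, h.arIsoAt⟩

lemma isARIso_of_isIso {X Y : PS C} (u : X ⟶ Y) [IsIso u] : IsARIso u :=
  isARIso_of_isShiftInverse (s := 0) (w := fun n => (inv u).app (op n))
    { natural := fun h => tr_naturality (inv u) h
      inv_comp := fun n => by simp [sm, tr_self]
      comp_inv := fun n => by simp [sm, tr_self] }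

section Two

variable {X Y Z : PS C} {u : X ⟶ Y} {v : Y ⟶ Z}

lemma isARIso_comp (hu : IsARIso u) (hv : IsARIso v) : IsARIso (u ≫ v) := by
  obtain ⟨r, hu⟩ := (isARIso_iff u).1 hu
  obtain ⟨r', hv⟩ := (isARIso_iff v).1 hv
  refine (isARIso_iff _).2 ⟨r + r', fun n T x hx => ?_, fun n => ?_⟩
  · have h₁ := hv.1 (n + r) (x ≫ tr X (show n + r + r' ≤ n + (r + r') by omega) ≫
      u.app (op (n + r + r'))) (by
        simp only [Category.assoc, tr_naturality_assoc, tr_naturality]
        rw [← Category.assoc (u.app _), ← NatTrans.comp_app, reassoc_of% hx, zero_comp])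
    have h₂ := hu.1 n (x ≫ tr X (show n + r ≤ n + (r + r') by omega)) (by
      simpa [sm, tr_naturality, tr_naturality_assoc, tr_tr, tr_tr_assoc] using h₁)
    simpa [sm, tr_tr] using h₂
  · obtain ⟨T₁, e₁, he₁, y₁, hy₁⟩ := (image_factors_iff _).1
      (Subobject.factors_of_factors_right (tr Z (show n + r + r' ≤ n + (r + r') by omega))
        (hv.2 (n + r)))
    obtain ⟨T₂, e₂, he₂, x₂, hx₂⟩ := (image_factors_iff _).1
      (Subobject.factors_of_factors_right y₁ (hu.2 n))
    refine (image_factors_iff _).2 ⟨T₂, e₂ ≫ e₁, inferInstance, x₂, ?_⟩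
    rw [NatTrans.comp_app, ← reassoc_of% hx₂]
    simp only [Category.assoc, sm, tr_naturality]
    rw [← reassoc_of% hy₁, tr_tr, tr_tr]

lemma isARIso_of_comp_right (huv : IsARIso (u ≫ v)) (hv : IsARIso v) : IsARIso u := by
  obtain ⟨r, huv⟩ := (isARIso_iff _).1 huv
  obtain ⟨r', hv⟩ := (isARIso_iff v).1 hv
  refine (isARIso_iff u).2 ⟨r + r', fun n T x hx => ?_, fun n => ?_⟩
  · refine (huv.mono (Nat.le_add_right r r')).1 n x ?_
    simp [reassoc_of% hx]
  · obtain ⟨T', e, he, x, hx⟩ := (image_factors_iff _).1 (Subobject.factors_of_factors_right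
      (tr Y (show n + r' + r ≤ n + (r + r') by omega) ≫ v.app (op (n + r' + r))) (huv.2 (n + r')))
    have h₁ := hv.1 n (e ≫ tr Y (show n + r' ≤ n + (r + r') by omega) - x ≫ u.app (op (n + r'))) (by
      rw [Preadditive.sub_comp, sub_eq_zero]
      simpa [sm, tr_naturality, tr_naturality_assoc, tr_tr, tr_tr_assoc] using hx)
    rw [Preadditive.sub_comp, sub_eq_zero] at h₁
    refine (image_factors_iff _).2 ⟨T', e, he, x ≫ sm X r' n, ?_⟩
    simpa [sm, tr_tr, tr_naturality] using h₁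

lemma isARIso_of_comp_left (huv : IsARIso (u ≫ v)) (hu : IsARIso u) : IsARIso v := by
  obtain ⟨r, huv⟩ := (isARIso_iff _).1 huv
  obtain ⟨r', hu⟩ := (isARIso_iff u).1 hu
  refine (isARIso_iff v).2 ⟨r + r', fun n T y hy => ?_, fun n => ?_⟩
  · obtain ⟨T', e, he, x, hx⟩ := (image_factors_iff _).1 (Subobject.factors_of_factors_right
      (y ≫ tr Y (show n + r + r' ≤ n + (r + r') by omega)) (hu.2 (n + r)))
    have hx' : x ≫ (u ≫ v).app (op (n + r)) = 0 := by
      rw [NatTrans.comp_app, ← reassoc_of% hx]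
      simp [sm, tr_naturality, tr_naturality_assoc, reassoc_of% hy]
    have h₁ := huv.1 n x hx'
    rw [← cancel_epi e, comp_zero]
    have h₂ := hx =≫ sm Y r n
    rw [Category.assoc x, sm, sm, ← tr_naturality, reassoc_of% h₁, zero_comp] at h₂
    simpa [tr_tr, tr_tr_assoc] using h₂
  · obtain ⟨T', e, he, x, hx⟩ := (image_factors_iff _).1 (Subobject.factors_of_factors_right
      (tr Z (show n + r ≤ n + (r + r') by omega)) (huv.2 n))
    refine (image_factors_iff _).2 ⟨T', e, he, x ≫ u.app (op n), ?_⟩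
    simpa [sm, tr_tr] using hx

end Two

end Groth.Agent.AR46
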