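import Groth.Agent.AR46.Adic

/-!
The kernel criterion in terms of successive kernels.
-/

universe w v u

open CategoryTheory CategoryTheory.Limits Opposite ARSys

namespace Groth.Agent.AR46

variable {C : Type u} [Category.{v} C] [Abelian C] {A : Type w} [CommRing A] [Linear A C]
  {J : Ideal A} {X : PS C}

lemma fker_factors_iff (k : ℕ) {T : C} (x : T ⟶ X.obj (op (k + 1))) :
    (Fker X (k + 1)).Factors x ↔ x ≫ tr X k.le_succ = 0 :=
  kernelSubobject_factors_iff _ _

lemma subLEIdeal_fker_of_kerLEI {r : ℕ} (h : KerLEI J X r) (n : ℕ) :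
    SubLEIdeal (J ^ (n - (r + 1))) (Fker X n) := by
  change LEI (J ^ (n - (r + 1))) (Fker X n).arrow
  rcases Nat.lt_or_ge n (r + 1) with hn | hn
  · rw [Nat.sub_eq_zero_of_le hn.le]; exact lei_pow_zero _ _
  · obtain ⟨k, rfl⟩ : ∃ k, n = (k + r) + 1 := ⟨n - (r + 1), by omega⟩
    have h0 : (Fker X (k + r + 1)).arrow ≫ tr X (k + r).le_succ = 0 :=
      kernelSubobject_arrow_comp _
    let e : k + 1 + r = k + r + 1 := by omega
    have h1 := h (n := k) (m := k + 1) k.le_succ ((Fker X (k + r + 1)).arrow ≫ tr X e.le)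
      (by rw [Category.assoc, tr_tr]; exact h0)
    have h2 := lei_comp_right h1 (tr X e.ge)
    rw [Category.assoc, tr_tr, tr_self, Category.comp_id] at h2
    exact lei_mono_ideal (Ideal.pow_le_pow_right (by omega)) h2

lemma kerLEI_of_subLEIdeal_fker (hJ : HasQuots C J) (hX : IsStrict X) {r : ℕ}
    (h : ∀ n, SubLEIdeal (J ^ (n - r)) (Fker X n)) : KerLEI J X r := by
  suffices H : ∀ (d a b : ℕ) (hab : a ≤ b) (hbd : b = a + d) ⦃T : C⦄ (x : T ⟶ X.obj (op b)),
      x ≫ tr X hab = 0 → LEI (J ^ (a + 1 - r)) x by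
    intro n m hnm T x hx
    exact lei_mono_ideal (Ideal.pow_le_pow_right (by omega))
      (H (m - n) (n + r) (m + r) (Nat.add_le_add_right hnm r) (by omega) x hx)
  intro d
  induction d with
  | zero =>
    rintro a b hab rfl T x hx
    rw [tr_self] at hx
    rw [show x = 0 by simpa using hx]
    exact lei_zero
  | succ d ih =>
    rintro a b hab rfl T x hx
    have h1 := ih a (a + d) (Nat.le_add_right a d) rfl (x ≫ tr X (a + d).le_succ)
      (by rw [Category.assoc, tr_tr]; exact hx)
    have := hX (a + d) (a + d + 1) (a + d).le_succ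
    obtain ⟨T', e, he, x', hx', hx''⟩ :=
      exists_lei_lift (hJ _ _) (tr X (a + d).le_succ) h1
    have h2 : (Fker X (a + d + 1)).Factors (e ≫ x - x') := by
      rw [fker_factors_iff, Preadditive.sub_comp, Category.assoc, hx'', sub_self]
    have h3 : LEI (J ^ (a + 1 - r)) (e ≫ x - x') := by
      rw [← Subobject.factorThru_arrow _ _ h2]
      exact lei_comp_left (lei_mono_ideal (Ideal.pow_le_pow_right (by omega)) (h (a + d + 1))) _
    refine lei_of_epi_comp e ?_
    simpa using lei_add h3 hx'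

end Groth.Agent.AR46
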