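import Groth.Agent.AR46.Shift

/-!
Short exact sequences, subsystems, strict systems and the uniform Mittag-Leffler condition.
-/

universe v u

open CategoryTheory CategoryTheory.Limits Opposite ARSys

namespace Groth.Agent.AR46

variable {C : Type u} [Category.{v} C] [Abelian C] {X Y : PS C}

section Seq

variable {S : ShortComplex (PS C)} (hS : S.ShortExact)

include hS

lemma app_shortExact (n : ℕ) : (S.map ((evaluation ℕᵒᵖ C).obj (op n))).ShortExact :=
  hS.map_of_exact _

lemma app_mono (n : ℕ) : Mono (S.f.app (op n)) := (app_shortExact hS n).mono_f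

lemma app_epi (n : ℕ) : Epi (S.g.app (op n)) := (app_shortExact hS n).epi_g

lemma app_exists_lift (n : ℕ) {T : C} (y : T ⟶ S.X₂.obj (op n)) (hy : y ≫ S.g.app (op n) = 0) :
    ∃ x, x ≫ S.f.app (op n) = y :=
  haveI := (app_shortExact hS n).mono_f
  (app_shortExact hS n).exact.lift' y hy

omit hS in
@[reassoc]
lemma app_zero (n : ℕ) : S.f.app (op n) ≫ S.g.app (op n) = 0 := by
  rw [← NatTrans.comp_app, S.zero]; rfl

lemma isARNull_iff_of_shortExact' : IsARNull S.X₂ ↔ IsARNull S.X₁ ∧ IsARNull S.X₃ := by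
  constructor
  · intro h
    obtain ⟨r, hr⟩ := isARNull_iff.1 h
    refine ⟨isARNull_iff.2 ⟨r, fun n => ?_⟩, isARNull_iff.2 ⟨r, fun n => ?_⟩⟩
    · have := app_mono hS n
      rw [← cancel_mono (S.f.app (op n)), tr_naturality, zero_comp]
      change _ ≫ sm S.X₂ r n = 0
      rw [hr, comp_zero]
    · have := app_epi hS (n + r)
      rw [← cancel_epi (S.g.app (op (n + r))), ← tr_naturality, comp_zero]
      change sm S.X₂ r n ≫ _ = 0
      rw [hr, zero_comp]
  · rintro ⟨h₁, h₃⟩
    obtain ⟨r, hr⟩ := isARNull_iff.1 h₁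
    obtain ⟨r', hr'⟩ := isARNull_iff.1 h₃
    refine isARNull_iff.2 ⟨r + r', fun n => ?_⟩
    obtain ⟨x, hx⟩ := app_exists_lift hS (n + r)
      (tr S.X₂ (show n + r ≤ n + r + r' by omega)) (by
        rw [tr_naturality]
        change _ ≫ sm S.X₃ r' (n + r) = 0
        rw [hr', comp_zero])
    rw [sm, ← tr_tr S.X₂ (Nat.le_add_right n r) (show n + r ≤ n + (r + r') by omega),
      ← tr_tr S.X₂ (show n + r ≤ n + r + r' by omega) (show n + r + r' ≤ n + (r + r') by omega),
      ← hx]
    simp only [Category.assoc, ← tr_naturality]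
    change _ ≫ x ≫ sm S.X₁ r n ≫ _ = 0
    simp [hr]

end Seq

section SubSys

variable (X) (S : ∀ n, Subobject (X.obj (op n)))

/-- A family of subobjects stable under transition maps. -/
abbrev IsStableFam : Prop := ∀ ⦃a b : ℕ⦄ (h : a ≤ b), (S a).Factors ((S b).arrow ≫ tr X h)

variable (hS : IsStableFam X S)

/-- The subsystem attached to a stable family. -/
@[reducible] noncomputable def subSys : PS C where
  obj n := (S n.unop : C)
  map {n m} f := (S m.unop).factorThru _ (hS f.unop.le)
  map_id n := by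
    rw [← cancel_mono (S n.unop).arrow, Subobject.factorThru_arrow, tr_self]
    exact (Category.comp_id _).trans (Category.id_comp _).symm
  map_comp {n m k} f g := by
    rw [← cancel_mono (S k.unop).arrow, Subobject.factorThru_arrow, Category.assoc,
      Subobject.factorThru_arrow, ← Category.assoc, Subobject.factorThru_arrow,
      Category.assoc, tr_tr]

/-- The inclusion of the subsystem. -/
@[reducible] noncomputable def subι : subSys X S hS ⟶ X where
  app n := (S n.unop).arrow
  naturality {_ m} f := (S m.unop).factorThru_arrow _ (hS f.unop.le)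

lemma subι_app (n : ℕ) : (subι X S hS).app (op n) = (S n).arrow := rfl

lemma subι_mono : Mono (subι X S hS) :=
  haveI : ∀ n : ℕᵒᵖ, Mono ((subι X S hS).app n) := fun n => inferInstanceAs (Mono (S n.unop).arrow)
  NatTrans.mono_of_mono_app _

lemma subι_tr {a b : ℕ} (h : a ≤ b) : tr (subSys X S hS) h ≫ (S a).arrow = (S b).arrow ≫ tr X h :=
  (S a).factorThru_arrow _ (hS h)

lemma subSys_epi_tr {a b : ℕ} (h : a ≤ b) (hle : S a ≤ imageSubobject ((S b).arrow ≫ tr X h)) :
    Epi (tr (subSys X S hS) h) := by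
  rw [epi_iff_surjective_up_to_refinements]
  intro T y
  change T ⟶ (S a : C) at y
  obtain ⟨T', e, he, x, hx⟩ := (image_factors_iff _).1
    (Subobject.factors_of_le _ hle (Subobject.factors_comp_arrow y))
  refine ⟨T', e, he, x, ?_⟩
  have := subι_tr X S hS h
  rw [← cancel_mono (S a).arrow]
  simp [this, hx]

lemma isARIso_subι {r : ℕ} (h : ∀ n, (S n).Factors (sm X r n)) : IsARIso (subι X S hS) := by
  refine isARIso_of_isShiftInverse (s := r) (w := fun n => (S n).factorThru _ (h n))
    { natural := fun {a b} hab => ?_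
      inv_comp := fun n => (S n).factorThru_arrow _ _
      comp_inv := fun n => ?_ }
  · rw [← cancel_mono (S a).arrow]
    change _ = (_ ≫ tr (subSys X S hS) hab) ≫ _
    rw [Category.assoc, Category.assoc, subι_tr, Subobject.factorThru_arrow,
      ← Category.assoc ((S b).factorThru _ _), Subobject.factorThru_arrow, tr_tr, tr_tr]
  · rw [← cancel_mono (S n).arrow, Category.assoc, Subobject.factorThru_arrow]
    exact (subι_tr X S hS _).symm

end SubSys

lemma image_sm_antitone {r s : ℕ} (h : r ≤ s) (n : ℕ) :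
    imageSubobject (sm X s n) ≤ imageSubobject (sm X r n) := by
  rw [sm, ← tr_tr X (Nat.le_add_right n r) (show n + r ≤ n + s by omega)]
  exact imageSubobject_comp_le _ _

lemma isMLAR_iff : IsMLAR X ↔ ∃ r, ∀ s, r ≤ s → ∀ n,
    (imageSubobject (sm X s n)).Factors (sm X r n) := by
  constructor
  · rintro ⟨r, hr⟩
    exact ⟨r, fun s hs n => image_le_iff.1 (le_of_eq (hr s hs n).symm)⟩
  · rintro ⟨r, hr⟩
    exact ⟨r, fun s hs n => le_antisymm (image_sm_antitone hs n) (image_le_iff.2 (hr s hs n))⟩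

lemma image_eq_of_strict {u : Y ⟶ X} (hY : IsStrict Y) (hu : IsARIso u) :
    ∃ r, ∀ s, r ≤ s → ∀ n, imageSubobject (sm X s n) = imageSubobject (u.app (op n)) := by
  obtain ⟨r, hr⟩ := (isARIso_iff u).1 hu
  refine ⟨r, fun s hs n => le_antisymm (image_le_iff.2 ?_) (image_le_iff.2 ?_)⟩
  · exact (hr.mono hs).2 n
  · have : Epi (tr Y (Nat.le_add_right n s)) := hY _ _ _
    refine factors_of_epi_comp (tr Y (Nat.le_add_right n s)) ?_
    rw [tr_naturality]
    exact Subobject.factors_of_factors_right _ (image_le_iff.1 le_rfl)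

lemma isMLAR_of_strict_arIso {u : Y ⟶ X} (hY : IsStrict Y) (hu : IsARIso u) : IsMLAR X := by
  obtain ⟨r, hr⟩ := image_eq_of_strict hY hu
  exact ⟨r, fun s hs n => (hr s hs n).trans (hr r le_rfl n).symm⟩

/-- The stable images of a system. -/
noncomputable abbrev imFam (X : PS C) (r n : ℕ) : Subobject (X.obj (op n)) :=
  imageSubobject (sm X r n)

lemma imFam_stable (r : ℕ) : IsStableFam X (imFam X r) := fun {a b} h => by
  obtain ⟨T', e, he, x, hx⟩ := (image_factors_iff _).1 (imFam X r b).factors_self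
  refine (image_factors_iff _).2 ⟨T', e, he, x ≫ tr X (Nat.add_le_add_right h r), ?_⟩
  rw [reassoc_of% hx, tr_tr, Category.assoc, tr_tr]

lemma exists_strict_of_isMLAR (hX : IsMLAR X) : ∃ r, IsStrict (subSys X _ (imFam_stable r)) ∧
    IsARIso (subι X _ (imFam_stable r)) := by
  obtain ⟨r, hr⟩ := isMLAR_iff.1 hX
  refine ⟨r, fun a b h => subSys_epi_tr _ _ _ h (image_le_iff.2 ?_),
    isARIso_subι _ _ _ (r := r) fun n => image_le_iff.1 le_rfl⟩
  obtain ⟨T', e, he, x, hx⟩ := (image_factors_iff _).1 (hr (r + (b - a)) (by omega) a)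
  refine (image_factors_iff _).2 ⟨T', e, he,
    x ≫ tr X (show b + r ≤ a + (r + (b - a)) by omega) ≫
      factorThruImageSubobject (sm X r b), ?_⟩
  rw [hx]
  simp [imageSubobject_arrow_comp_assoc, tr_tr]

lemma isMLAR_iff_exists_strict :
    IsMLAR X ↔ ∃ (Y : PS C) (u : Y ⟶ X), IsStrict Y ∧ IsARIso u :=
  ⟨fun h => by
    obtain ⟨r, h₁, h₂⟩ := exists_strict_of_isMLAR h
    exact ⟨_, _, h₁, h₂⟩, fun ⟨_, _, hY, hu⟩ => isMLAR_of_strict_arIso hY hu⟩

lemma isMLAR_of_arIso {u : Y ⟶ X} (hu : IsARIso u) (hY : IsMLAR Y) : IsMLAR X := by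
  obtain ⟨Z, v, hZ, hv⟩ := isMLAR_iff_exists_strict.1 hY
  exact isMLAR_of_strict_arIso hZ (isARIso_comp hv hu)

lemma isStrict_of_epi (f : X ⟶ Y) [∀ n, Epi (f.app n)] (hX : IsStrict X) : IsStrict Y :=
  fun a b h => by
    have := hX a b h
    exact epi_of_epi_fac (tr_naturality f h).symm

end Groth.Agent.AR46
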